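import Cfsg.Agent.ExtFieldMax.Overgroup
import Mathlib.RingTheory.Adjoin.Basic
import Mathlib.LinearAlgebra.FreeModule.PID

/-!
A line over the field and its image meeting in the largest possible dimension (helper98).
-/

set_option autoImplicit false

namespace Cfsg.Agent.ExtFieldMax

open Matrix Cfsg.Agent.MaxSub

variable {ι : Type} [Fintype ι] [DecidableEq ι] {F : Type*} [Field F]
variable {K : Subalgebra F (Matrix ι ι F)} {r : ℕ}

/-- The image of a line over the field. -/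
def lineImg (K : Subalgebra F (Matrix ι ι F)) (g : GL ι F) (v : ι → F) : Submodule F (ι → F) :=
  (kline K v).map (g : Matrix ι ι F).mulVecLin

theorem mem_lineImg {g : GL ι F} {v x : ι → F} :
    x ∈ lineImg K g v ↔ ∃ μ : K, (g : Matrix ι ι F) *ᵥ ev K v μ = x := by
  constructor
  · rintro ⟨y, ⟨μ, rfl⟩, rfl⟩
    exact ⟨μ, rfl⟩
  · rintro ⟨μ, rfl⟩
    exact ⟨_, ⟨μ, rfl⟩, rfl⟩

theorem inv_mem_kline {g : GL ι F} {v x : ι → F} (h : x ∈ lineImg K g v) :
    ((g⁻¹ : GL ι F) : Matrix ι ι F) *ᵥ x ∈ kline K v := by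
  obtain ⟨μ, rfl⟩ := mem_lineImg.mp h
  rw [inv_mulVec_mulVec]
  exact ⟨μ, rfl⟩

variable (hK : Geo.IsFieldSubalgebra r K) (hr : r.Prime) (hcard : r < Fintype.card ι)
variable (H : Subgroup (GL ι F))
variable (hC : ∀ g : GL ι F, g ∈ Geo.specialLinear ι F →
  (∀ (k : K) x, (g : Matrix ι ι F) *ᵥ ((k : Matrix ι ι F) *ᵥ x) =
    (k : Matrix ι ι F) *ᵥ ((g : Matrix ι ι F) *ᵥ x)) → g ∈ H)

include hK in
theorem finrank_lineImg (g : GL ι F) {v : ι → F} (hv : v ≠ 0) :
    Module.finrank F (lineImg K g v) = r := by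
  rw [lineImg, finrank_map_gl, finrank_kline hK hv]

include hK hr hcard hC in
/-- An image of the line meeting it in a hyperplane of both. -/
theorem exists_line_image {v : ι → F} (hv : v ≠ 0)
    (hn : ∃ g ∈ H, ∃ (k : K) (x : ι → F),
      (g : Matrix ι ι F) *ᵥ ((k : Matrix ι ι F) *ᵥ x) ∉ kline K ((g : Matrix ι ι F) *ᵥ x)) :
    ∃ h ∈ H, ∃ (l : ι → F) (c : K), l ∈ lineImg K h v ∧ l ∉ kline K v ∧ c ≠ 0 ∧
      ev K v c ∈ lineImg K h v ∧ ∀ x ∈ lineImg K h v, ∃ f : F, x - f • l ∈ kline K v := by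
  classical
  set L := kline K v with hL
  let P : ℕ → Prop := fun a => ∃ h ∈ H, lineImg K h v ≠ L ∧
    Module.finrank F ↥(L ⊓ lineImg K h v) = a
  -- a first image
  obtain ⟨h1, hh1, hne1, hmem1⟩ : ∃ h ∈ H, lineImg K h v ≠ L ∧ v ∈ lineImg K h v := by
    obtain ⟨g, hg, k, x, hgx⟩ := hn
    have hx : x ≠ 0 := fun h => hgx (by simp [h])
    obtain ⟨c1, hc1, hc1v, hc1c⟩ := exists_move hK hr hcard H hC hv hx
    obtain ⟨c2, hc2, hc2v, hc2c⟩ := exists_move hK hr hcard H hC (mulVec_ne_zero g hx) hv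
    refine ⟨c2 * g * c1, mul_mem (mul_mem hc2 hg) hc1, fun he => hgx ?_,
      mem_lineImg.mpr ⟨1, ?_⟩⟩
    · have h2 : ((c2 * g * c1 : GL ι F) : Matrix ι ι F) *ᵥ ev K v k ∈ L :=
        he ▸ mem_lineImg.mpr ⟨k, rfl⟩
      rw [Units.val_mul, Units.val_mul, ← mulVec_mulVec, ← mulVec_mulVec, ev_apply, hc1c,
        hc1v] at h2
      obtain ⟨l, hl⟩ := h2
      refine ⟨l, mulVec_injective c2 ?_⟩
      show (c2 : Matrix ι ι F) *ᵥ _ = (c2 : Matrix ι ι F) *ᵥ _
      rw [ev_apply, hc2c, hc2v]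
      exact hl
    · rw [ev_one, Units.val_mul, Units.val_mul, ← mulVec_mulVec, ← mulVec_mulVec, hc1v, hc2v]
  have hle : ∀ g : GL ι F, Module.finrank F ↥(L ⊓ lineImg K g v) ≤ r := fun g =>
    (Submodule.finrank_mono inf_le_left).trans (finrank_kline hK hv).le
  obtain ⟨h, hh, hne, ha⟩ := Nat.findGreatest_spec (P := P) (hle h1) ⟨h1, hh1, hne1, rfl⟩
  have hmax : ∀ g ∈ H, lineImg K g v ≠ L →
      Module.finrank F ↥(L ⊓ lineImg K g v) ≤ Module.finrank F ↥(L ⊓ lineImg K h v) :=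
    fun g hg hgne => ha ▸ Nat.le_findGreatest (hle g) ⟨g, hg, hgne, rfl⟩
  set L' := lineImg K h v with hL'
  obtain ⟨l, hl, hlL⟩ : ∃ l ∈ L', l ∉ L := by
    by_contra hc
    push Not at hc
    exact hne (Submodule.eq_of_le_of_finrank_eq hc
      (by rw [hL', finrank_lineImg hK h hv, hL, finrank_kline hK hv]))
  obtain ⟨c, hc0, hcL⟩ : ∃ c : K, c ≠ 0 ∧ ev K v c ∈ L' := by
    have h1pos : 0 < Module.finrank F ↥(L ⊓ lineImg K h1 v) :=
      Module.finrank_pos_iff_exists_ne_zero.mpr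
        ⟨⟨v, self_mem_kline v, hmem1⟩, fun h => hv (congrArg Subtype.val h)⟩
    obtain ⟨⟨y, hyL, hy'⟩, hy0⟩ :=
      Module.finrank_pos_iff_exists_ne_zero.mp (h1pos.trans_le (hmax h1 hh1 hne1))
    obtain ⟨c, rfl⟩ := hyL
    exact ⟨c, fun h => hy0 (Subtype.ext (by simp [h])), hy'⟩
  -- maximality
  have claimA : ∀ φ : (ι → F) →ₗ[F] K, IsKLin φ → φ v = 0 → ev K v (φ l) ∈ L' →
      ∀ x ∈ L', ev K v (φ x) ∈ L' := by
    intro φ hφ hφv hφl
    obtain ⟨e, he, hex⟩ := inH_el_zero hK H hC hφ hφv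
    have heL : lineImg K (h⁻¹ * e * h) v = L := by
      by_contra hne'
      have h2 := hmax _ (mul_mem (mul_mem (inv_mem hh) he) hh) hne'
      set S := (L ⊓ L') ⊔ Submodule.span F {l}
      have hS : ∀ s ∈ S, s ∈ L' ∧ (e : Matrix ι ι F) *ᵥ s ∈ L' := by
        intro s hs
        obtain ⟨y, hy, z, hz, rfl⟩ := Submodule.mem_sup.mp hs
        obtain ⟨a, rfl⟩ := Submodule.mem_span_singleton.mp hz
        refine ⟨add_mem hy.2 (L'.smul_mem a hl), ?_⟩
        obtain ⟨μ, hμ⟩ := hy.1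
        rw [mulVec_add, mulVec_smul, hex, hex, LinearMap.comp_apply, LinearMap.comp_apply,
          ← hμ, phi_ev hK hφ, hφv, mul_zero, map_zero, add_zero]
        exact add_mem (hμ ▸ hy.2) (L'.smul_mem a (add_mem hl hφl))
      have hlt : L ⊓ L' < S := lt_of_le_of_ne le_sup_left fun he' => hlL
        ((he' ▸ Submodule.mem_sup_right (Submodule.mem_span_singleton_self l) : l ∈ L ⊓ L').1)
      have h3 : S.map ((h⁻¹ * e : GL ι F) : Matrix ι ι F).mulVecLin ≤
          L ⊓ lineImg K (h⁻¹ * e * h) v := by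
        rintro _ ⟨s, hs, rfl⟩
        obtain ⟨μ, hμ⟩ := mem_lineImg.mp (hS s hs).1
        refine ⟨?_, mem_lineImg.mpr ⟨μ, ?_⟩⟩
        · show ((h⁻¹ * e : GL ι F) : Matrix ι ι F) *ᵥ s ∈ L
          rw [Units.val_mul, ← mulVec_mulVec]
          exact inv_mem_kline (hS s hs).2
        · show _ = ((h⁻¹ * e : GL ι F) : Matrix ι ι F) *ᵥ s
          rw [← hμ, Units.val_mul (h⁻¹ * e) h, ← mulVec_mulVec]
      have h4 := Submodule.finrank_mono h3
      rw [finrank_map_gl] at h4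
      have h5 := Submodule.finrank_lt_finrank_of_lt hlt
      omega
    intro x hx
    obtain ⟨μ, hμ⟩ := mem_lineImg.mp hx
    have h2 : ((h⁻¹ * e * h : GL ι F) : Matrix ι ι F) *ᵥ ev K v μ ∈ L :=
      heL ▸ mem_lineImg.mpr ⟨μ, rfl⟩
    rw [Units.val_mul, Units.val_mul, ← mulVec_mulVec, ← mulVec_mulVec, hμ, hex] at h2
    obtain ⟨ν, hν⟩ := h2
    have h3 : x + ev K v (φ x) ∈ L' := mem_lineImg.mpr ⟨ν, by
      rw [hν, mulVec_inv_mulVec]; rfl⟩
    simpa using sub_mem h3 hx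
  -- values
  have claimB : ∀ φ : (ι → F) →ₗ[F] K, IsKLin φ → φ v = 0 → φ l = 1 →
      ∀ x ∈ L', ∃ f : F, φ x = algebraMap F K f := by
    intro φ hφ hφv hφl x hx
    letI : Field K := (isField_of hK hr.one_lt.le).toField
    haveI : IsSimpleOrder (Subalgebra F K) :=
      Subalgebra.isSimpleOrder_of_finrank_prime F K (hK.finrank_eq.symm ▸ hr)
    let C : Subalgebra F K :=
      { carrier := {d | ∀ e, ev K v e ∈ L' → ev K v (d * e) ∈ L'}
        mul_mem' := fun {a b} ha hb e he => by rw [mul_assoc]; exact ha _ (hb _ he)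
        one_mem' := fun e he => by rwa [one_mul]
        add_mem' := fun {a b} ha hb e he => by rw [add_mul, map_add]; exact add_mem (ha _ he) (hb _ he)
        zero_mem' := fun e he => by rw [zero_mul, map_zero]; exact zero_mem _
        algebraMap_mem' := fun a e he => by
          rw [← Algebra.smul_def, map_smul]; exact L'.smul_mem a he }
    have hxC : φ x ∈ C := fun e he => by
      rw [mul_comm]
      refine claimA (LinearMap.mulLeft F e ∘ₗ φ) (isKLin_smul mul_comm hφ e) ?_ ?_ x hx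
      · show e * φ v = 0
        rw [hφv, mul_zero]
      · show ev K v (e * φ l) ∈ L'
        rw [hφl, mul_one]
        exact he
    rcases IsSimpleOrder.eq_bot_or_eq_top C with hb | ht
    · rw [hb, Algebra.mem_bot] at hxC
      obtain ⟨f, hf⟩ := hxC
      exact ⟨f, hf.symm⟩
    · refine absurd ?_ hne
      refine (Submodule.eq_of_le_of_finrank_eq (show L ≤ L' from ?_)
        (by rw [hL', finrank_lineImg hK h hv, hL, finrank_kline hK hv])).symm
      rintro _ ⟨μ, rfl⟩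
      have := (ht ▸ Algebra.mem_top : μ / c ∈ C) c hcL
      rwa [div_mul_cancel₀ _ hc0] at this
  refine ⟨h, hh, l, c, hl, hlL, hc0, hcL, fun x hx => ?_⟩
  obtain ⟨φ, hφ, hφL, hφl⟩ := exists_klin hK hr.one_lt.le (stable_kline v) hlL
  have hφv : φ v = 0 := hφL v (self_mem_kline v)
  obtain ⟨f, hf⟩ := claimB φ hφ hφv hφl x hx
  refine ⟨f, ?_⟩
  have hφx' : φ (x - f • l) = 0 := by
    rw [map_sub, map_smul, hφl, hf, Algebra.smul_def, mul_one, sub_self]
  by_contra hout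
  by_cases hsup : x - f • l ∈ L ⊔ kline K l
  · obtain ⟨y, hy, z, ⟨b, rfl⟩, he⟩ := Submodule.mem_sup.mp hsup
    have hb : b = 0 := by
      rw [← he, map_add, hφL y hy, zero_add, phi_ev hK hφ, hφl, mul_one] at hφx'
      exact hφx'
    rw [hb, map_zero, add_zero] at he
    exact hout (he ▸ hy)
  · obtain ⟨ψ, hψ, hψU, hψx⟩ := exists_klin hK hr.one_lt.le
      (stable_sup (stable_kline v) (stable_kline l)) hsup
    obtain ⟨k, hk⟩ : ∃ k : K, k ∉ Set.range (algebraMap F K) := by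
      by_contra hc'
      push Not at hc'
      have h1 : Module.finrank F K ≤ 1 := finrank_le_one 1 fun k => by
        obtain ⟨a, ha⟩ := hc' k
        exact ⟨a, by rw [Algebra.smul_def, mul_one, ha]⟩
      rw [hK.finrank_eq] at h1
      have := hr.two_le
      omega
    obtain ⟨f', hf'⟩ := claimB (φ + LinearMap.mulLeft F k ∘ₗ ψ)
      (fun a y => by
        show φ _ + k * ψ _ = a * (φ y + k * ψ y)
        rw [hφ, hψ, mul_add, ← mul_assoc k, kmul_comm hK k a, mul_assoc])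
      (by
        show φ v + k * ψ v = 0
        rw [hφv, hψU v (Submodule.mem_sup_left (self_mem_kline v)), mul_zero, add_zero])
      (by
        show φ l + k * ψ l = 1
        rw [hφl, hψU l (Submodule.mem_sup_right (self_mem_kline l)), mul_zero, add_zero])
      (x - f • l) (sub_mem hx (L'.smul_mem f hl))
    refine hk ⟨f', hf'.symm.trans ?_⟩
    show φ _ + k * ψ _ = k
    rw [hφx', hψx, zero_add, mul_one]

end Cfsg.Agent.ExtFieldMax
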