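import Cfsg.Agent.ExtFieldMax.Psi
import Cfsg.Agent.ExtFieldMax.Intersect

/-!
Four dimensions over the field with two elements (helper98).
-/

set_option autoImplicit false

namespace Cfsg.Agent.ExtFieldMax

open Matrix Cfsg.Agent.MaxSub

variable {ι : Type} [Fintype ι] [DecidableEq ι] {F : Type*} [Field F] [Finite F]
variable {K : Subalgebra F (Matrix ι ι F)}
variable (hK : Geo.IsFieldSubalgebra 2 K) (hcard : Fintype.card ι = 4)
variable (hF : ∀ s : F, s = 0 ∨ s = 1)
variable (H : Subgroup (GL ι F))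
variable (hC : ∀ g : GL ι F, g ∈ Geo.specialLinear ι F →
  (∀ (k : K) x, (g : Matrix ι ι F) *ᵥ ((k : Matrix ι ι F) *ᵥ x) =
    (k : Matrix ι ι F) *ᵥ ((g : Matrix ι ι F) *ᵥ x)) → g ∈ H)

include hK hcard hF hC in
theorem specialLinear_le_of_four {v : ι → F} (hv : v ≠ 0) {h : GL ι F} (hh : h ∈ H)
    (hne : lineImg K h v ≠ kline K v) (hvh : v ∈ lineImg K h v) :
    Geo.specialLinear ι F ≤ H := by
  have hcard' : 2 < Fintype.card ι := by omega
  haveI : Module.Finite F K := Module.finite_of_finrank_pos (by rw [hK.finrank_eq]; exact two_pos)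
  haveI : Nontrivial K := (isField_of hK one_le_two).nontrivial
  letI : Field K := (isField_of hK one_le_two).toField
  have h2 : (1 : F) + 1 = 0 := (hF (1 + 1)).resolve_right fun h => one_ne_zero (add_eq_left.mp h)
  have h2K : ∀ k : K, k + k = 0 := fun k => by
    rw [← one_smul F k, ← add_smul, h2, zero_smul]
  have h2V : ∀ x : ι → F, x + x = 0 := fun x => by
    rw [← one_smul F x, ← add_smul, h2, zero_smul]
  have hnegV : ∀ x : ι → F, -x = x := fun x => neg_eq_of_add_eq_zero_left (h2V x)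
  -- a generator of the field
  obtain ⟨ω, hω⟩ : ∃ ω : K, ω ∉ Set.range (algebraMap F K) := by
    by_contra hc'
    push Not at hc'
    have h1 : Module.finrank F K ≤ 1 := finrank_le_one 1 fun k => by
      obtain ⟨a, ha⟩ := hc' k
      exact ⟨a, by rw [Algebra.smul_def, mul_one, ha]⟩
    rw [hK.finrank_eq] at h1
    omega
  have hω0 : ω ≠ 0 := fun h => hω ⟨0, by rw [h, map_zero]⟩
  have hω1 : ω ≠ 1 := fun h => hω ⟨1, by rw [h, map_one]⟩
  have hspan : ∀ k : K, ∃ a b : F, k = a • 1 + b • ω := by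
    have hli : LinearIndependent F ![(1 : K), ω] := by
      rw [LinearIndependent.pair_iff' one_ne_zero]
      intro a ha
      exact hω ⟨a, by rw [← ha, Algebra.smul_def, mul_one]⟩
    intro k
    have htop := hli.span_eq_top_of_card_eq_finrank (by simp [hK.finrank_eq])
    rw [Matrix.range_cons, Matrix.range_cons, Matrix.range_empty, Set.union_empty,
      Set.singleton_union] at htop
    obtain ⟨a, b, hab⟩ := Submodule.mem_span_pair.mp
      (show k ∈ Submodule.span F {(1 : K), ω} from htop ▸ Submodule.mem_top)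
    exact ⟨a, b, hab.symm⟩
  have hωω : ω * ω = 1 + ω := by
    obtain ⟨a, b, hab⟩ := hspan (ω * ω)
    rcases hF a with rfl | rfl <;> rcases hF b with rfl | rfl <;>
      simp only [zero_smul, one_smul, zero_add, add_zero] at hab ⊢
    · exact absurd (mul_self_eq_zero.mp hab) hω0
    · exact absurd (mul_right_cancel₀ hω0 (hab.trans (one_mul ω).symm)) hω1
    · have : (ω + 1) * (ω + 1) = 0 := by
        rw [show (ω + 1) * (ω + 1) = ω * ω + 1 + (ω + ω) by ring, h2K, hab, h2K, add_zero]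
      exact absurd ((eq_neg_of_add_eq_zero_left (mul_self_eq_zero.mp this)).trans
        (neg_eq_of_add_eq_zero_left (h2K 1))) hω1
    · exact hab
  have hnorm : ∀ e : K, e ≠ 0 → Algebra.norm F e = 1 := fun e he =>
    (hF _).resolve_left (Algebra.norm_ne_zero_iff.mpr he)
  have hel : ∀ (φ : (ι → F) →ₗ[F] K), IsKLin φ → ∀ x : ι → F, 1 + φ x ≠ 0 →
      InH H (ev K x ∘ₗ φ) := fun φ hφ x hx =>
    inH_el hK H hC hφ (isUnit_iff_ne_zero.mpr hx) (hnorm _ hx)
  -- coordinates
  set L := kline K v with hL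
  obtain ⟨u, hu⟩ := mem_lineImg.mp hvh
  set u0 := ev K v u with hu0
  have hu0L : u0 ∈ L := ⟨u, rfl⟩
  set l := (h : Matrix ι ι F) *ᵥ ev K u0 ω with hl
  set p := ev K v ω with hp
  set w1 := ((h⁻¹ : GL ι F) : Matrix ι ι F) *ᵥ p with hw1
  have hu00 : u0 ≠ 0 := fun h0 => hv (by rw [← hu, h0, mulVec_zero])
  have hLu : ∀ μ : K, ev K v μ = ev K u0 (μ * u⁻¹) := fun μ => by
    have hu' : u ≠ 0 := fun h0 => hu00 (by rw [hu0, h0, map_zero])
    rw [hu0, ev_apply _ (μ * u⁻¹), ev_apply v u, mulVec_mulVec, ← Subalgebra.coe_mul, ev_apply,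
      mul_assoc, inv_mul_cancel₀ hu', mul_one]
  have hl' : l ∈ lineImg K h v := mem_lineImg.mpr ⟨ω * u, by rw [ev_mul]; rfl⟩
  have hhu : ∀ a b : F, (h : Matrix ι ι F) *ᵥ ev K u0 (a • 1 + b • ω) = a • v + b • l := by
    intro a b
    rw [map_add, map_smul, map_smul, ev_one, mulVec_add, mulVec_smul, mulVec_smul, hu]
  have himg : ∀ x ∈ lineImg K h v, ∃ a b : F, x = a • v + b • l := by
    intro x hx
    obtain ⟨μ, rfl⟩ := mem_lineImg.mp hx
    obtain ⟨a, b, hab⟩ := hspan (μ * u⁻¹)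
    exact ⟨a, b, by rw [hLu, hab, hhu]⟩
  have hlL : l ∉ L := by
    intro hc
    refine hne (Submodule.eq_of_le_of_finrank_eq (fun x hx => ?_)
      (by rw [finrank_lineImg hK h hv, hL, finrank_kline hK hv]))
    obtain ⟨a, b, rfl⟩ := himg x hx
    exact add_mem (L.smul_mem a (self_mem_kline v)) (L.smul_mem b hc)
  obtain ⟨φ, hφ, hφL, hφl⟩ := exists_klin hK one_le_two (stable_kline v) hlL
  have hφv : φ v = 0 := hφL v (self_mem_kline v)
  have hdec : ∀ x, ∃ a b c d : F, x = a • v + b • p + c • l + d • ev K l ω := by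
    have hinf : kline K v ⊓ kline K l = ⊥ := by
      rw [Submodule.eq_bot_iff]
      rintro x ⟨hx1, k, rfl⟩
      have := hφL _ hx1
      rw [phi_ev hK hφ, hφl, mul_one] at this
      rw [this, map_zero]
    have hsup : kline K v ⊔ kline K l = ⊤ := by
      refine Submodule.eq_top_of_finrank_eq ?_
      have := Submodule.finrank_sup_add_finrank_inf_eq (kline K v) (kline K l)
      rw [hinf, finrank_bot, finrank_kline hK hv,
        finrank_kline hK (fun h0 : l = 0 => hlL (by rw [h0]; exact zero_mem _))] at this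
      rw [Module.finrank_fintype_fun_eq_card, hcard]
      omega
    intro x
    obtain ⟨y, ⟨μ, rfl⟩, z, ⟨ν, rfl⟩, rfl⟩ :=
      Submodule.mem_sup.mp ((by rw [hsup]; trivial) : x ∈ kline K v ⊔ kline K l)
    obtain ⟨a, b, rfl⟩ := hspan μ
    obtain ⟨c, d, rfl⟩ := hspan ν
    refine ⟨a, b, c, d, ?_⟩
    rw [map_add, map_add, map_smul, map_smul, map_smul, map_smul, ev_one, ev_one, hp]
    abel
  have hpimg : p ∉ lineImg K h v := by
    intro hc
    refine hne (Submodule.eq_of_le_of_finrank_eq (fun x hx => ?_)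
      (by rw [finrank_lineImg hK h hv, hL, finrank_kline hK hv])).symm
    obtain ⟨μ, rfl⟩ := hx
    obtain ⟨a, b, rfl⟩ := hspan μ
    rw [map_add, map_smul, map_smul, ev_one]
    exact add_mem (Submodule.smul_mem _ a hvh) (Submodule.smul_mem _ b hc)
  have hw1L : w1 ∉ L := by
    rintro ⟨μ, hμ⟩
    exact hpimg (mem_lineImg.mpr ⟨μ, by rw [hμ, hw1, mulVec_inv_mulVec]⟩)
  obtain ⟨s, t, x, y, hq⟩ := hdec ((h : Matrix ι ι F) *ᵥ ev K w1 ω)
  have hy : y = 1 := by
    refine (hF y).resolve_left fun hy0 => ?_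
    rw [hy0, zero_smul, add_zero] at hq
    have e1 : ev K w1 ω = s • u0 + t • w1 + x • ev K u0 ω := mulVec_injective h (by
      show (h : Matrix ι ι F) *ᵥ _ = (h : Matrix ι ι F) *ᵥ _
      rw [hq, mulVec_add, mulVec_add, mulVec_smul, mulVec_smul, mulVec_smul, hu, hw1,
        mulVec_inv_mulVec])
    have e2 : ev K w1 (ω - algebraMap F K t) ∈ L := by
      rw [map_sub, e1, Algebra.algebraMap_eq_smul_one t, map_smul, ev_one,
        show s • u0 + t • w1 + x • ev K u0 ω - t • w1 = s • u0 + x • ev K u0 ω by abel]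
      exact add_mem (L.smul_mem s hu0L) (L.smul_mem x (kline_stable v ω hu0L))
    refine hw1L (mem_kline_of_mulVec hK (sub_ne_zero.mpr fun he => hω ⟨t, he.symm⟩) e2)
  obtain ⟨φ1, hφ1, hφ1L, hφ1w⟩ := exists_klin hK one_le_two (stable_kline v) hw1L
  -- the conjugated elements fixing the image of the line
  have hG : ∀ k : K, ∃ G ∈ H, (G : Matrix ι ι F) *ᵥ v = v ∧ (G : Matrix ι ι F) *ᵥ l = l ∧
      (G : Matrix ι ι F) *ᵥ p = p + (h : Matrix ι ι F) *ᵥ ev K u0 k ∧
      (G : Matrix ι ι F) *ᵥ ev K l ω = ev K l ω + (h : Matrix ι ι F) *ᵥ ev K u0 (ω * k) +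
        t • ((h : Matrix ι ι F) *ᵥ ev K u0 k) := by
    intro k
    have hd : IsKLin (LinearMap.mulLeft F k ∘ₗ φ1) := isKLin_smul mul_comm hφ1 k
    obtain ⟨g, hg, hgx⟩ := hel _ hd u0 (by
      show (1 : K) + k * φ1 u0 ≠ 0
      rw [hφ1L u0 hu0L, mul_zero, add_zero]
      exact one_ne_zero)
    have hfix : ∀ z ∈ lineImg K h v, ((h * g * h⁻¹ : GL ι F) : Matrix ι ι F) *ᵥ z = z := by
      intro z hz
      rw [Units.val_mul, Units.val_mul, ← mulVec_mulVec, ← mulVec_mulVec, hgx]
      show _ *ᵥ (_ + ev K u0 (k * φ1 _)) = z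
      rw [hφ1L _ (inv_mem_kline hz), mul_zero, map_zero, add_zero, mulVec_inv_mulVec]
    have hGh : ∀ z, ((h * g * h⁻¹ : GL ι F) : Matrix ι ι F) *ᵥ ((h : Matrix ι ι F) *ᵥ z) =
        (h : Matrix ι ι F) *ᵥ z + (h : Matrix ι ι F) *ᵥ ev K u0 (k * φ1 z) := fun z => by
      rw [Units.val_mul, Units.val_mul, ← mulVec_mulVec, ← mulVec_mulVec, inv_mulVec_mulVec,
        hgx, mulVec_add]
      rfl
    have hGp : ((h * g * h⁻¹ : GL ι F) : Matrix ι ι F) *ᵥ p =
        p + (h : Matrix ι ι F) *ᵥ ev K u0 k := by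
      have := hGh w1
      rwa [hφ1w, mul_one, hw1, mulVec_inv_mulVec] at this
    refine ⟨h * g * h⁻¹, mul_mem (mul_mem hh hg) (inv_mem hh), hfix v hvh, hfix l hl', hGp, ?_⟩
    have h3 := hGh (ev K w1 ω)
    rw [phi_ev hK hφ1, hφ1w, mul_one, hq, hy, one_smul, mulVec_add, mulVec_add, mulVec_add,
      mulVec_smul, mulVec_smul, mulVec_smul, hfix v hvh, hfix l hl', hGp, mul_comm k] at h3
    rw [smul_add] at h3
    have h4 : ∀ (a b e f g' : ι → F), a + b + e + f = a + b + e + g' → f = g' :=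
      fun a b e f g' h => add_left_cancel h
    refine h4 (s • v) (t • p) (x • l) _ _ ?_
    linear_combination (norm := module) h3 - h2V (t • ((h : Matrix ι ι F) *ᵥ ev K u0 k))
  -- elements commuting with the field
  obtain ⟨φv, hφv', hφvl, hφvv⟩ := exists_klin hK one_le_two (stable_kline l)
    (show v ∉ kline K l from fun hm => by
      obtain ⟨k, hk⟩ := hm
      refine hlL (mem_kline_of_mulVec hK (k := k) (fun h0 => hv (by rw [← hk, h0, map_zero])) ?_)
      rw [← ev_apply, hk]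
      exact self_mem_kline v)
  have hφvl' : φv l = 0 := hφvl l (self_mem_kline l)
  let E : F → F → F → F → (ι → F) := fun a b c d => a • v + b • p + c • l + d • ev K l ω
  obtain ⟨B, hB, hBx⟩ : ∃ g ∈ H, ∀ a b c d,
      (g : Matrix ι ι F) *ᵥ E a b c d = E (a + d) (b + c + d) c d := by
    obtain ⟨g, hg, hgx⟩ := hel _ (isKLin_smul mul_comm hφ ω) v (by
      show (1 : K) + ω * φ v ≠ 0
      rw [hφv, mul_zero, add_zero]; exact one_ne_zero)
    refine ⟨g, hg, fun a b c d => ?_⟩
    simp only [E, hgx, hp, LinearMap.comp_apply, LinearMap.mulLeft_apply, map_add, map_smul,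
      mul_add, mul_smul_comm, phi_ev hK hφ, hφv, hφl, mul_zero, mul_one, map_zero, smul_zero,
      zero_add, hωω, ev_one, smul_add]
    module
  obtain ⟨D, hD, hDx⟩ : ∃ g ∈ H, ∀ a b c d,
      (g : Matrix ι ι F) *ᵥ E a b c d = E a b (c + b) (d + a + b) := by
    obtain ⟨g, hg, hgx⟩ := hel _ (isKLin_smul mul_comm hφv' ω) l (by
      show (1 : K) + ω * φv l ≠ 0
      rw [hφvl', mul_zero, add_zero]; exact one_ne_zero)
    refine ⟨g, hg, fun a b c d => ?_⟩
    simp only [E, hgx, hp, LinearMap.comp_apply, LinearMap.mulLeft_apply, map_add, map_smul,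
      mul_add, mul_smul_comm, phi_ev hK hφv', hφvv, hφvl', mul_zero, mul_one, map_zero, smul_zero,
      add_zero, hωω, ev_one, smul_add]
    module
  obtain ⟨Z, hZ, hZx⟩ : ∃ g ∈ H, ∀ a b c d,
      (g : Matrix ι ι F) *ᵥ E a b c d = E a b d (c + d) := by
    have e : 1 + (LinearMap.mulLeft F (ω + 1) ∘ₗ φ) l = ω := by
      show 1 + (ω + 1) * φ l = ω
      rw [hφl, mul_one, add_left_comm, h2K, add_zero]
    obtain ⟨g, hg, hgx⟩ := hel _ (isKLin_smul mul_comm hφ (ω + 1)) l (by rw [e]; exact hω0)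
    refine ⟨g, hg, fun a b c d => ?_⟩
    simp only [E, hgx, hp, LinearMap.comp_apply, LinearMap.mulLeft_apply, map_add, map_smul,
      mul_add, mul_smul_comm, phi_ev hK hφ, hφv, hφl, mul_zero, mul_one, map_zero, smul_zero,
      zero_add, add_mul, one_mul, hωω, ev_one, smul_add]
    match_scalars <;> grind
  -- from a transvection
  have finish' : ∀ (P : GL ι F) (a1 b1 : F) (y0 : K), P ∈ H → y0 ≠ 0 → (a1 ≠ 0 ∨ b1 ≠ 0) →
      (∀ a b c d, (P : Matrix ι ι F) *ᵥ E a b c d = E a b c d + (a1 * c + b1 * d) • ev K v y0) →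
      Geo.specialLinear ι F ≤ H := by
    intro P a1 b1 y0 hP hy0 hab hPx
    have hli : LinearIndependent F ![(1 : K), ω] := by
      rw [LinearIndependent.pair_iff' one_ne_zero]
      intro a ha
      exact hω ⟨a, by rw [← ha, Algebra.smul_def, mul_one]⟩
    let bK := basisOfLinearIndependentOfCardEqFinrank hli (by simp [hK.finrank_eq])
    have hb : (bK : Fin 2 → K) = ![(1 : K), ω] := coe_basisOfLinearIndependentOfCardEqFinrank _ _
    let θ : K →ₗ[F] F := bK.constr F ![a1, b1]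
    have hθ1 : θ 1 = a1 := by
      have := bK.constr_basis F ![a1, b1] 0
      rwa [hb] at this
    have hθω : θ ω = b1 := by
      have := bK.constr_basis F ![a1, b1] 1
      rwa [hb] at this
    refine specialLinear_le_of_rankOne hK Nat.prime_two hcard' H hC hv hφ hφv hφl
      (θ := θ) (fun h0 => ?_) hy0 ⟨P, hP, fun z => ?_⟩
    · rw [h0, LinearMap.zero_apply] at hθ1 hθω
      rcases hab with h' | h'
      · exact h' hθ1.symm
      · exact h' hθω.symm
    · obtain ⟨a, b, c, d, rfl⟩ := hdec z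
      refine (hPx a b c d).trans ?_
      congr 1
      simp only [E, hp, LinearMap.comp_apply, LinearMap.smulRight_apply, map_add, map_smul,
        phi_ev hK hφ, hφv, hφl, mul_zero, mul_one, smul_zero, map_zero, zero_add, hθ1, hθω,
        smul_eq_mul]
      module
  rcases hF t with rfl | rfl
  · obtain ⟨G, hGH, hGv, hGl, hGp, hGq⟩ := hG ω
    have e1 : (h : Matrix ι ι F) *ᵥ ev K u0 ω = l := rfl
    have e2 : (h : Matrix ι ι F) *ᵥ ev K u0 (ω * ω) = v + l := by
      rw [hωω, map_add, ev_one, mulVec_add, hu]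
    rw [e1] at hGp hGq
    rw [e2, zero_smul, add_zero] at hGq
    have hGx : ∀ a b c d, (G : Matrix ι ι F) *ᵥ E a b c d = E (a + d) b (c + b + d) d := by
      intro a b c d
      simp only [E, mulVec_add, mulVec_smul, hGv, hGl, hGp, hGq]
      module
    refine finish' (G * B * D * G * B * Z * D) 0 1 ω
      (mul_mem (mul_mem (mul_mem (mul_mem (mul_mem (mul_mem hGH hB) hD) hGH) hB) hZ) hD) hω0
      (Or.inr one_ne_zero) fun a b c d => ?_
    simp only [Units.val_mul, ← mulVec_mulVec, hGx, hBx, hDx, hZx]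
    simp only [E, ← hp]
    match_scalars <;> grind
  · obtain ⟨G, hGH, hGv, hGl, hGp, hGq⟩ := hG 1
    have e1 : (h : Matrix ι ι F) *ᵥ ev K u0 1 = v := by rw [ev_one, hu]
    rw [e1] at hGp hGq
    rw [mul_one, one_smul, show (h : Matrix ι ι F) *ᵥ ev K u0 ω = l from rfl] at hGq
    have hGx : ∀ a b c d, (G : Matrix ι ι F) *ᵥ E a b c d = E (a + b + d) b (c + d) d := by
      intro a b c d
      simp only [E, mulVec_add, mulVec_smul, hGv, hGl, hGp, hGq]
      module
    refine finish' (G * Z * G * Z) 1 0 1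
      (mul_mem (mul_mem (mul_mem hGH hZ) hGH) hZ) one_ne_zero
      (Or.inl one_ne_zero) fun a b c d => ?_
    simp only [Units.val_mul, ← mulVec_mulVec, hGx, hZx]
    simp only [E, ev_one]
    match_scalars <;> grind

end Cfsg.Agent.ExtFieldMax
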