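import Cfsg.Agent.ExtFieldMax.Key
import Cfsg.Agent.ExtFieldMax.Small

/-!
Overgroups of the normaliser of an extension field of prime degree (helper98).
-/

set_option autoImplicit false

namespace Cfsg.Agent.ExtFieldMax

open Matrix Cfsg.Agent.MaxSub

variable {ι : Type} [Fintype ι] [DecidableEq ι] {F : Type*} [Field F] [Finite F]
variable {K : Subalgebra F (Matrix ι ι F)} {r : ℕ}
variable (hK : Geo.IsFieldSubalgebra r K) (hr : r.Prime) (hdvd : r ∣ Fintype.card ι)
variable (hcard : r < Fintype.card ι)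
variable (H : Subgroup (GL ι F))
variable (hC : ∀ g : GL ι F, g ∈ Geo.specialLinear ι F →
  (∀ (k : K) x, (g : Matrix ι ι F) *ᵥ ((k : Matrix ι ι F) *ᵥ x) =
    (k : Matrix ι ι F) *ᵥ ((g : Matrix ι ι F) *ᵥ x)) → g ∈ H)

include hK hr hdvd hcard hC in
/-- A group not permuting the lines over the field contains the special linear group. -/
theorem specialLinear_le_of_not_lines
    (hn : ∃ g ∈ H, ∃ (k : K) (x : ι → F),
      (g : Matrix ι ι F) *ᵥ ((k : Matrix ι ι F) *ᵥ x) ∉ kline K ((g : Matrix ι ι F) *ᵥ x)) :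
    Geo.specialLinear ι F ≤ H := by
  haveI : Nonempty ι := Fintype.card_pos_iff.mp (by omega)
  haveI : Module.Finite F K := Module.finite_of_finrank_pos (by rw [hK.finrank_eq]; exact hr.pos)
  letI : Field K := (isField_of hK hr.one_lt.le).toField
  obtain ⟨v, hv⟩ : ∃ v : ι → F, v ≠ 0 := exists_ne 0
  obtain ⟨h, hh, l, c, hl, hlL, hc0, hcL, hdec⟩ := exists_line_image hK hr hcard H hC hv hn
  set L := kline K v with hL
  set L' := lineImg K h v with hL'
  have hrL : Module.finrank F L = r := finrank_kline hK hv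
  have hrL' : Module.finrank F L' = r := finrank_lineImg hK h hv
  have hne : L' ≠ L := fun he => hlL (he ▸ hl)
  -- the intersection is a hyperplane
  have hsub : L' ≤ (L ⊓ L') ⊔ Submodule.span F {l} := fun x hx => by
    obtain ⟨f, hf⟩ := hdec x hx
    rw [← sub_add_cancel x (f • l)]
    exact Submodule.add_mem_sup ⟨hf, sub_mem hx (L'.smul_mem f hl)⟩
      (Submodule.smul_mem _ f (Submodule.mem_span_singleton_self l))
  have hlt : Module.finrank F ↥(L ⊓ L') < r := by
    refine lt_of_le_of_ne (hrL ▸ Submodule.finrank_mono inf_le_left) fun he => hne ?_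
    have : L ⊓ L' = L := Submodule.eq_of_le_of_finrank_eq inf_le_left (by rw [he, hrL])
    exact (Submodule.eq_of_le_of_finrank_eq (inf_eq_left.mp this) (by rw [hrL, hrL'])).symm
  have hinf : Module.finrank F ↥(L ⊓ L') + 1 = r := by
    have h1 := (Submodule.finrank_mono hsub).trans
      (Submodule.finrank_add_le_finrank_add_finrank _ _)
    rw [hrL'] at h1
    have h2 : Module.finrank F (Submodule.span F {l}) ≤ 1 :=
      (finrank_span_singleton (K := F) (fun h0 : l = 0 => hlL (h0 ▸ zero_mem L))).le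
    omega
  obtain ⟨m, hmL, hmL'⟩ : ∃ m ∈ L, m ∉ L' := by
    by_contra hc'
    push Not at hc'
    exact hne (Submodule.eq_of_le_of_finrank_eq hc' (by rw [hrL, hrL'])).symm
  have hLdec : ∀ y ∈ L, ∃ a ∈ L ⊓ L', ∃ f : F, y = a + f • m := by
    have hle : (L ⊓ L') ⊔ Submodule.span F {m} ≤ L :=
      sup_le inf_le_left ((Submodule.span_singleton_le_iff_mem _ _).mpr hmL)
    have hlt' : L ⊓ L' < (L ⊓ L') ⊔ Submodule.span F {m} := lt_of_le_of_ne le_sup_left fun he =>
      hmL' ((he ▸ Submodule.mem_sup_right (Submodule.mem_span_singleton_self m) : m ∈ L ⊓ L').2)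
    have heq := Submodule.eq_of_le_of_finrank_le hle (by
      have := Submodule.finrank_lt_finrank_of_lt hlt'
      omega)
    intro y hy
    rw [← heq] at hy
    obtain ⟨a, ha, z, hz, rfl⟩ := Submodule.mem_sup.mp hy
    obtain ⟨f, rfl⟩ := Submodule.mem_span_singleton.mp hz
    exact ⟨a, ha, f, rfl⟩
  obtain ⟨ξ, hξ0, hξm⟩ := exists_annihilator (show m ∉ L ⊓ L' from fun hm => hmL' hm.2)
  obtain ⟨φ0, hφ0, hφ0L, hφ0l⟩ := exists_klin hK hr.one_lt.le (stable_kline v) hlL
  have hφ0v : φ0 v = 0 := hφ0L v (self_mem_kline v)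
  obtain ⟨π, hπ⟩ : ∃ π : K →ₗ[F] F, ∀ f, π (algebraMap F K f) = f := by
    obtain ⟨π, hπ⟩ := (Algebra.linearMap F K).exists_leftInverse_of_injective
      (LinearMap.ker_eq_bot.mpr (algebraMap F K).injective)
    exact ⟨π, fun f => LinearMap.congr_fun hπ f⟩
  have hval : ∀ x ∈ L', φ0 x = algebraMap F K (π (φ0 x)) := by
    intro x hx
    obtain ⟨f, hf⟩ := hdec x hx
    have h1 := hφ0L _ hf
    rw [map_sub, map_smul, hφ0l, Algebra.smul_def, mul_one, sub_eq_zero] at h1
    rw [h1, hπ]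
  -- the element stabilising the line
  obtain ⟨κ, hκ⟩ := mem_lineImg.mp hcL
  have hκ' : ((h⁻¹ : GL ι F) : Matrix ι ι F) *ᵥ ev K v c = ev K v κ := by
    rw [← hκ, inv_mulVec_mulVec]
  have hκ0 : κ ≠ 0 := fun h0 => hc0 (ev_injective hK hv (by rw [← hκ, h0, map_zero, mulVec_zero]))
  let θ : K →ₗ[F] F := π ∘ₗ φ0 ∘ₗ (h : Matrix ι ι F).mulVecLin ∘ₗ ev K v
  have hθ : ∀ μ, φ0 ((h : Matrix ι ι F) *ᵥ ev K v μ) = algebraMap F K (θ μ) := fun μ =>
    hval _ (mem_lineImg.mpr ⟨μ, rfl⟩)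
  have hθκ : θ κ = 0 := by
    show π (φ0 ((h : Matrix ι ι F) *ᵥ ev K v κ)) = 0
    rw [hκ, phi_ev hK hφ0, hφ0v, mul_zero, map_zero]
  have hθ0 : θ ≠ 0 := by
    intro h0
    obtain ⟨lam, hlam⟩ := mem_lineImg.mp hl
    have h1 := hθ lam
    rw [hlam, hφ0l, h0, LinearMap.zero_apply, map_zero] at h1
    exact one_ne_zero h1
  let T : (ι → F) →ₗ[F] (ι → F) := ev K v ∘ₗ LinearMap.mulLeft F c ∘ₗ φ0
  let D : (ι → F) →ₗ[F] (ι → F) :=
    ((h⁻¹ : GL ι F) : Matrix ι ι F).mulVecLin ∘ₗ T ∘ₗ (h : Matrix ι ι F).mulVecLin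
  let β : (ι → F) →ₗ[F] F := dotLin ξ ∘ₗ T ∘ₗ (h : Matrix ι ι F).mulVecLin
  have hDs : ∀ s : F, InH H (s • D) := by
    intro s
    have hs : IsKLin (s • (LinearMap.mulLeft F c ∘ₗ φ0)) := fun k x => by
      show s • (c * φ0 _) = k * s • (c * φ0 x)
      rw [hφ0, mul_smul_comm, ← mul_assoc, mul_comm c k, mul_assoc]
    have h1 := (inH_el_zero hK H hC hs (v := v) (by
      show s • (c * φ0 v) = 0
      rw [hφ0v, mul_zero, smul_zero])).conj hh
    rwa [LinearMap.comp_smul, LinearMap.smul_comp, LinearMap.comp_smul] at h1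
  have hTv : ∀ y : ι → F, T (ev K v (c * φ0 y)) = 0 := fun y => by
    show ev K v (c * φ0 (ev K v _)) = 0
    rw [phi_ev hK hφ0, hφ0v, mul_zero, mul_zero, map_zero]
  have hDD : ∀ x, D (D x) = 0 := fun x => by
    show _ *ᵥ T (_ *ᵥ (_ *ᵥ T _)) = 0
    rw [mulVec_inv_mulVec]
    show _ *ᵥ T (ev K v (c * φ0 _)) = 0
    rw [hTv, mulVec_zero]
  have hDv : ∀ μ, D (ev K v μ) = θ μ • ev K v κ := fun μ => by
    show _ *ᵥ ev K v (c * φ0 (_ *ᵥ ev K v μ)) = _
    rw [hθ, mul_comm, ← Algebra.smul_def, map_smul, mulVec_smul, hκ']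
  have hβv : ∀ μ, β (ev K v μ) = 0 := fun μ => by
    show ξ ⬝ᵥ ev K v (c * φ0 (_ *ᵥ ev K v μ)) = 0
    rw [hθ, mul_comm, ← Algebra.smul_def, map_smul, dotProduct_smul,
      hξ0 _ ⟨⟨c, rfl⟩, hcL⟩, smul_zero]
  set w := ((h⁻¹ : GL ι F) : Matrix ι ι F) *ᵥ m with hw
  have hwL : w ∉ L := fun hc' => hmL' (by
    obtain ⟨μ, hμ⟩ := hc'
    exact mem_lineImg.mpr ⟨μ, by rw [hμ, hw, mulVec_inv_mulVec]⟩)
  have hβw : β w = 0 := by
    show ξ ⬝ᵥ ev K v (c * φ0 (_ *ᵥ w)) = 0
    rw [hw, mulVec_inv_mulVec, hφ0L m hmL, mul_zero, map_zero, dotProduct_zero]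
  have hφD : ∀ φ : (ι → F) →ₗ[F] K, IsKLin φ → φ v = 0 → ∀ y, φ (D y) = β y • φ w := by
    intro φ hφ hφv y
    set z := T ((h : Matrix ι ι F) *ᵥ y) with hz
    obtain ⟨a, ha, f, hzf⟩ := hLdec z ⟨_, rfl⟩
    have hfβ : β y = f := by
      show ξ ⬝ᵥ z = f
      rw [hzf, dotProduct_add, dotProduct_smul, hξ0 a ha, hξm, zero_add, smul_eq_mul, mul_one]
    obtain ⟨μ, hμ⟩ := inv_mem_kline ha.2
    show φ (_ *ᵥ z) = _
    rw [hzf, hfβ, mulVec_add, mulVec_smul, map_add, map_smul, ← hμ, phi_ev hK hφ, hφv, mul_zero,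
      zero_add]
  have hkey : ∀ (s : F) (φ : (ι → F) →ₗ[F] K), IsKLin φ → φ v = 0 →
      InH H (ev K v ∘ₗ (((s • θ) ∘ₗ φ).smulRight κ -
        (s • β).smulRight (φ w + (s • θ) (φ w) • κ))) := fun s φ hφ hφv =>
    inH_commutator hK H hC (hDs s)
      (fun x => by rw [LinearMap.smul_apply, LinearMap.smul_apply, map_smul, hDD, smul_zero,
        smul_zero])
      (fun μ => by rw [LinearMap.smul_apply, hDv, smul_smul, LinearMap.smul_apply, smul_eq_mul])
      (fun μ => by rw [LinearMap.smul_apply, hβv, smul_zero])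
      hφ hφv (fun y => by
        rw [LinearMap.smul_apply, map_smul, hφD φ hφ hφv, LinearMap.smul_apply, smul_assoc])
  have hstab : Stable K (L ⊔ kline K w) := stable_sup (stable_kline v) (stable_kline w)
  have hfin : Module.finrank F ↥(L ⊔ kline K w) = 2 * r := by
    have h0 : L ⊓ kline K w = ⊥ := by
      rw [Submodule.eq_bot_iff]
      rintro x ⟨hx, k, rfl⟩
      by_cases hk : k = 0
      · rw [hk, map_zero]
      · exact absurd (mem_kline_of_mulVec hK hk hx) hwL
    have h1 := Submodule.finrank_sup_add_finrank_inf_eq L (kline K w)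
    rw [h0, finrank_bot, hrL, finrank_kline hK (fun h0 : w = 0 => hwL (h0 ▸ zero_mem L))] at h1
    omega
  rcases lt_or_ge (2 * r) (Fintype.card ι) with hbig | hsmall
  · -- a further dimension
    obtain ⟨z, hz⟩ := exists_notMem_of_lt (U := L ⊔ kline K w) (by omega)
    obtain ⟨φ, hφ, hφU, hφz⟩ := exists_klin hK hr.one_lt.le hstab hz
    have hφv : φ v = 0 := hφU v (Submodule.mem_sup_left (self_mem_kline v))
    refine specialLinear_le_of_rankOne hK hr hcard H hC hv hφ hφv hφz hθ0 hκ0 ?_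
    have := hkey 1 φ hφ hφv
    rw [one_smul, one_smul, hφU w (Submodule.mem_sup_right (self_mem_kline w)), map_zero,
      zero_smul, add_zero] at this
    convert this using 2
    exact LinearMap.ext fun x => by simp
  -- twice the degree
  have hn2 : Fintype.card ι = 2 * r := by
    obtain ⟨d, hd⟩ := hdvd
    have : 1 < d := by
      by_contra hd1
      have : r * d ≤ r * 1 := Nat.mul_le_mul_left r (by omega)
      omega
    have : r * 2 ≤ r * d := Nat.mul_le_mul_left r this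
    omega
  obtain ⟨φ1, hφ1, hφ1L, hφ1w⟩ := exists_klin hK hr.one_lt.le (stable_kline v) hwL
  have hφ1v : φ1 v = 0 := hφ1L v (self_mem_kline v)
  have htop : L ⊔ kline K w = ⊤ := Submodule.eq_top_of_finrank_eq
    (by rw [hfin, Module.finrank_fintype_fun_eq_card, hn2])
  let β' : K →ₗ[F] F := β ∘ₗ ev K w
  have hβ' : ∀ y, β y = β' (φ1 y) := fun y => by
    obtain ⟨a, ⟨μ, rfl⟩, b, ⟨ν, rfl⟩, rfl⟩ :=
      Submodule.mem_sup.mp ((by rw [htop]; trivial) : y ∈ L ⊔ kline K w)
    rw [map_add, map_add, hβv, phi_ev hK hφ1, phi_ev hK hφ1, hφ1v, hφ1w, mul_zero, mul_one,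
      zero_add, zero_add]
    rfl
  obtain ⟨Ψ, hmem, -, -, -⟩ := exists_psi hK hr hcard H hC hv hφ1 hφ1v hφ1w
  have hΨ : ∀ (s : F) (lam : K), ((s • θ) ∘ₗ LinearMap.mulLeft F lam).smulRight κ -
      (s • β').smulRight (lam + (s • θ) lam • κ) ∈ Ψ := by
    intro s lam
    rw [hmem]
    have := hkey s (LinearMap.mulLeft F lam ∘ₗ φ1) (isKLin_smul mul_comm hφ1 lam) (by
      show lam * φ1 v = 0
      rw [hφ1v, mul_zero])
    convert this using 2
    refine LinearMap.ext fun x => ?_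
    have e : (LinearMap.mulLeft F lam ∘ₗ φ1) w = lam := by
      show lam * φ1 w = lam
      rw [hφ1w, mul_one]
    simp only [e, LinearMap.sub_apply, LinearMap.comp_apply, LinearMap.smulRight_apply,
      LinearMap.smul_apply, hβ', LinearMap.mulLeft_apply]
  have hrank : ∀ (ρ : K →ₗ[F] F) (y : K), ρ ≠ 0 → y ≠ 0 → ρ.smulRight y ∈ Ψ →
      Geo.specialLinear ι F ≤ H := fun ρ y hρ hy hm =>
    specialLinear_le_of_rankOne hK hr hcard H hC hv hφ1 hφ1v hφ1w hρ hy ((hmem _).mp hm)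
  by_cases hb0 : β' = 0
  · refine hrank θ κ hθ0 hκ0 ?_
    convert hΨ 1 1 using 1
    rw [hb0]
    exact LinearMap.ext fun x => by simp
  by_cases hF : ∃ s : F, s ≠ 0 ∧ s ≠ 1
  · obtain ⟨s, hs0, hs1⟩ := hF
    obtain ⟨lam, hlam⟩ : ∃ lam, θ lam ≠ 0 := by
      by_contra hc'
      push Not at hc'
      exact hθ0 (LinearMap.ext hc')
    refine hrank β' κ hb0 hκ0 ?_
    have h1 := Ψ.smul_mem ((s * (s - 1) * θ lam)⁻¹)
      (sub_mem (Ψ.smul_mem s (hΨ 1 lam)) (hΨ s lam))
    convert h1 using 1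
    have hne0 : s * (s - 1) * θ lam ≠ 0 :=
      mul_ne_zero (mul_ne_zero hs0 (sub_ne_zero.mpr hs1)) hlam
    refine LinearMap.ext fun x => ?_
    simp only [one_smul, LinearMap.smul_apply, LinearMap.sub_apply, LinearMap.comp_apply,
      LinearMap.smulRight_apply, smul_eq_mul]
    match_scalars
    · rw [eq_inv_mul_iff_mul_eq₀ hne0]
      ring
    · ring
  -- two elements
  push Not at hF
  have hF' : ∀ s : F, s = 0 ∨ s = 1 := fun s => (em (s = 0)).imp_right (hF s)
  by_cases hbκ : β' = θ ∘ₗ LinearMap.mulLeft F κ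
  · rcases Nat.lt_or_ge r 3 with hr2 | hr3
    · obtain rfl : r = 2 := by have := hr.two_le; omega
      have hL1 : kline K (ev K v c) = L := by
        refine Submodule.eq_of_le_of_finrank_eq ?_ (by
          rw [finrank_kline hK (fun h0 : ev K v c = 0 => hc0 (ev_injective hK hv
            (h0.trans (map_zero _).symm))), hrL])
        rintro x ⟨μ, rfl⟩
        exact kline_stable v μ ⟨c, rfl⟩
      have hL2 : lineImg K h (ev K v c) = L' := congrArg
        (Submodule.map (h : Matrix ι ι F).mulVecLin) hL1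
      exact specialLinear_le_of_four hK (by omega) hF' H hC
        (fun h0 : ev K v c = 0 => hc0 (ev_injective hK hv (h0.trans (map_zero _).symm))) hh
        (by rw [hL1, hL2]; exact hne) (by rw [hL2]; exact hcL)
    obtain ⟨k, hk, hkκ⟩ : ∃ k, θ k = 0 ∧ ∀ s : F, k ≠ s • κ := by
      by_contra hc'
      push Not at hc'
      have h1 : LinearMap.ker θ ≤ Submodule.span F {κ} := fun k hk => by
        obtain ⟨s, hs⟩ := hc' k hk
        exact hs ▸ Submodule.smul_mem _ s (Submodule.mem_span_singleton_self κ)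
      have h2 := Submodule.finrank_mono h1
      rw [finrank_span_singleton hκ0] at h2
      have h3 := LinearMap.finrank_range_add_finrank_ker θ
      have h4 := (LinearMap.range θ).finrank_le
      rw [Module.finrank_self] at h4
      rw [hK.finrank_eq] at h3
      omega
    refine specialLinear_le_of_balanced hK hr hcard H hC hv hφ1 hφ1v hφ1w hθ0 hκ0 hkκ
      ((hmem _).mp ?_)
    convert hΨ 1 k using 1
    rw [one_smul, one_smul, hk, zero_smul, add_zero, hbκ]
  · refine hrank (θ ∘ₗ LinearMap.mulLeft F κ - β') κ (sub_ne_zero.mpr (Ne.symm hbκ)) hκ0 ?_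
    convert hΨ 1 κ using 1
    rw [one_smul, one_smul, hθκ, zero_smul, add_zero]
    exact LinearMap.ext fun x => by simp [sub_smul]

include hK hr hdvd hcard hC in
/-- A group containing the centraliser part normalises the field or contains `SL`. -/
theorem le_normalizer_or_specialLinear_le :
    H ≤ Geo.subalgebraNormalizer K ∨ Geo.specialLinear ι F ≤ H := by
  by_cases hn : ∃ g ∈ H, ∃ (k : K) (x : ι → F),
      (g : Matrix ι ι F) *ᵥ ((k : Matrix ι ι F) *ᵥ x) ∉ kline K ((g : Matrix ι ι F) *ᵥ x)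
  · exact Or.inr (specialLinear_le_of_not_lines hK hr hdvd hcard H hC hn)
  · push Not at hn
    exact Or.inl fun g hg => mem_normalizer_of_lines hK hr hcard (hn g hg) (hn g⁻¹ (inv_mem hg))

include hK hr hcard in
omit [Finite F] in
/-- A transvection outside the normaliser. -/
theorem exists_tv_not_mem :
    ∃ g ∈ Geo.specialLinear ι F, g ∉ Geo.subalgebraNormalizer K := by
  haveI : Nonempty ι := Fintype.card_pos_iff.mp (by omega)
  obtain ⟨v, hv⟩ : ∃ v : ι → F, v ≠ 0 := exists_ne 0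
  obtain ⟨z, hz⟩ := exists_notMem_of_lt (U := kline K v) (by rw [finrank_kline hK hv]; exact hcard)
  obtain ⟨k, hk⟩ : ∃ k : K, ev K v k ∉ Submodule.span F {v} := by
    by_contra hc'
    push Not at hc'
    have h1 : kline K v ≤ Submodule.span F {v} := by
      rintro x ⟨k, rfl⟩
      exact hc' k
    have h2 := Submodule.finrank_mono h1
    rw [finrank_kline hK hv, finrank_span_singleton hv] at h2
    have := hr.two_le
    omega
  have hkv : ev K v k ∉ Submodule.span F {v} ⊔ Submodule.span F {z} := by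
    intro hm
    obtain ⟨a, ha, b, hb, hab⟩ := Submodule.mem_sup.mp hm
    obtain ⟨s, rfl⟩ := Submodule.mem_span_singleton.mp hb
    rcases eq_or_ne s 0 with rfl | hs
    · rw [zero_smul, add_zero] at hab
      exact hk (hab ▸ ha)
    · refine hz ?_
      obtain ⟨t, rfl⟩ := Submodule.mem_span_singleton.mp ha
      have h1 : s • z ∈ kline K v := by
        rw [← add_sub_cancel_left (t • v) (s • z), hab]
        exact sub_mem ⟨k, rfl⟩ (Submodule.smul_mem _ t (self_mem_kline v))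
      simpa [smul_smul, hs] using (kline K v).smul_mem s⁻¹ h1
  obtain ⟨ξ, hξ, hξk⟩ := exists_annihilator hkv
  have h0 : ξ ⬝ᵥ z = 0 := hξ z (Submodule.mem_sup_right (Submodule.mem_span_singleton_self z))
  have hv0 : ξ ⬝ᵥ v = 0 := hξ v (Submodule.mem_sup_left (Submodule.mem_span_singleton_self v))
  refine ⟨tv z ξ, tv_mem_specialLinear z ξ, fun hmem => hz ?_⟩
  have h1 := (hmem k).mp k.2
  have h2 : ((tv z ξ : Matrix ι ι F) * (k : Matrix ι ι F) *
      (((tv z ξ)⁻¹ : GL ι F) : Matrix ι ι F)) *ᵥ v ∈ kline K v := kline_stable v ⟨_, h1⟩ (self_mem_kline v)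
  have h3 : ((tv z ξ)⁻¹ : GL ι F).1 *ᵥ v = v := by
    conv_lhs => rw [← show (tv z ξ : Matrix ι ι F) *ᵥ v = v by
      rw [tv_mulVec h0, hv0, zero_smul, add_zero]]
    rw [inv_mulVec_mulVec]
  rw [← mulVec_mulVec, h3, ← mulVec_mulVec, ← ev_apply, tv_mulVec h0, hξk, one_smul] at h2
  simpa using sub_mem h2 (⟨k, rfl⟩ : ev K v k ∈ kline K v)

end Cfsg.Agent.ExtFieldMax
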