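import Cfsg.Agent.MaxSub.Basic
import Mathlib.RingTheory.Norm.Defs
import Mathlib.RingTheory.Norm.Basic
import Mathlib.RingTheory.Trace.Basic

/-!
Linear maps over a field subalgebra of a matrix algebra, and the invertible maps
`x ↦ x + φ(x) v` (helper98).
-/

set_option autoImplicit false

namespace Cfsg.Agent.ExtFieldMax

open Matrix Cfsg.Agent.MaxSub

variable {ι : Type} [Fintype ι] [DecidableEq ι] {F : Type*} [Field F]
variable {K : Subalgebra F (Matrix ι ι F)} {r : ℕ}

theorem isField_of (hK : Geo.IsFieldSubalgebra r K) (hr : 1 ≤ r) : IsField K where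
  exists_pair_ne := by
    by_contra h
    simp only [not_exists, not_not] at h
    haveI : Subsingleton K := ⟨h⟩
    have h0 := Module.finrank_zero_of_subsingleton (R := F) (M := K)
    rw [hK.finrank_eq] at h0
    omega
  mul_comm a b := Subtype.ext (hK.comm a a.2 b b.2)
  mul_inv_cancel {a} ha := by
    obtain ⟨b, hb, hab⟩ := hK.inv a a.2 fun h => ha (Subtype.ext h)
    exact ⟨⟨b, hb⟩, Subtype.ext hab⟩

/-- The matrix action of the subalgebra. -/
def kModule (K : Subalgebra F (Matrix ι ι F)) : Module K (ι → F) where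
  smul k v := (k : Matrix ι ι F) *ᵥ v
  one_smul v := one_mulVec v
  mul_smul k l v := (mulVec_mulVec v (k : Matrix ι ι F) (l : Matrix ι ι F)).symm
  smul_zero k := mulVec_zero (k : Matrix ι ι F)
  smul_add k u v := mulVec_add (k : Matrix ι ι F) u v
  add_smul k l v := add_mulVec (k : Matrix ι ι F) (l : Matrix ι ι F) v
  zero_smul v := zero_mulVec v

/-- `k ↦ k v`. -/
def ev (K : Subalgebra F (Matrix ι ι F)) (v : ι → F) : K →ₗ[F] (ι → F) where
  toFun k := (k : Matrix ι ι F) *ᵥ v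
  map_add' k l := add_mulVec _ _ v
  map_smul' c k := smul_mulVec c _ v

@[simp] theorem ev_apply (v : ι → F) (k : K) : ev K v k = (k : Matrix ι ι F) *ᵥ v := rfl

theorem ev_mul (v : ι → F) (k l : K) : ev K v (k * l) = (k : Matrix ι ι F) *ᵥ ev K v l :=
  (mulVec_mulVec v _ _).symm

theorem ev_one (v : ι → F) : ev K v 1 = v := one_mulVec v

/-- The line over `K` through `v`. -/
def kline (K : Subalgebra F (Matrix ι ι F)) (v : ι → F) : Submodule F (ι → F) :=
  LinearMap.range (ev K v)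

theorem self_mem_kline (v : ι → F) : v ∈ kline K v := ⟨1, ev_one v⟩

theorem kline_stable (v : ι → F) (k : K) {x : ι → F} (hx : x ∈ kline K v) :
    (k : Matrix ι ι F) *ᵥ x ∈ kline K v := by
  obtain ⟨l, rfl⟩ := hx
  exact ⟨k * l, ev_mul v k l⟩

variable (hK : Geo.IsFieldSubalgebra r K)
include hK

theorem eq_zero_of_mulVec {k : K} {v : ι → F} (hv : v ≠ 0) (h : (k : Matrix ι ι F) *ᵥ v = 0) :
    k = 0 := by
  by_contra hk
  obtain ⟨b, hb, hab⟩ := hK.inv k k.2 fun h => hk (Subtype.ext h)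
  refine hv ?_
  rw [← one_mulVec v, ← hab, hK.comm _ k.2 _ hb, ← mulVec_mulVec, h, mulVec_zero]

theorem ev_injective {v : ι → F} (hv : v ≠ 0) : Function.Injective (ev K v) :=
  (injective_iff_map_eq_zero _).mpr fun _ h => eq_zero_of_mulVec hK hv h

theorem finrank_kline {v : ι → F} (hv : v ≠ 0) : Module.finrank F (kline K v) = r := by
  rw [kline, LinearMap.finrank_range_of_inj (ev_injective hK hv), hK.finrank_eq]

omit hK in
/-- A subspace stable under the subalgebra. -/
def Stable (K : Subalgebra F (Matrix ι ι F)) (U : Submodule F (ι → F)) : Prop :=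
  ∀ k : K, ∀ x ∈ U, (k : Matrix ι ι F) *ᵥ x ∈ U

omit hK in
theorem stable_kline (v : ι → F) : Stable K (kline K v) := fun k _ hx => kline_stable v k hx

omit hK in
theorem stable_sup {U W : Submodule F (ι → F)} (hU : Stable K U) (hW : Stable K W) :
    Stable K (U ⊔ W) := by
  intro k x hx
  obtain ⟨u, hu, w, hw, rfl⟩ := Submodule.mem_sup.mp hx
  rw [mulVec_add]
  exact Submodule.add_mem_sup (hU k u hu) (hW k w hw)

omit hK in
/-- Linearity over the subalgebra. -/
def IsKLin (φ : (ι → F) →ₗ[F] K) : Prop := ∀ (k : K) x, φ ((k : Matrix ι ι F) *ᵥ x) = k * φ x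

set_option synthInstance.maxHeartbeats 200000 in
/-- A functional over `K` vanishing on a stable subspace and one at a vector outside it. -/
theorem exists_klin (hr : 1 ≤ r) {U : Submodule F (ι → F)} (hU : Stable K U) {w : ι → F}
    (hw : w ∉ U) : ∃ φ : (ι → F) →ₗ[F] K, IsKLin φ ∧ (∀ u ∈ U, φ u = 0) ∧ φ w = 1 := by
  letI : Field K := (isField_of hK hr).toField
  letI : Module K (ι → F) := kModule K
  let U' : Submodule K (ι → F) :=
    { carrier := U, add_mem' := U.add_mem, zero_mem' := U.zero_mem, smul_mem' := hU }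
  obtain ⟨ξ, hξ, hξU⟩ := U'.exists_dual_map_eq_bot_of_notMem (show w ∉ U' from hw) inferInstance
  have hmul : ∀ (k : K) x, ξ ((k : Matrix ι ι F) *ᵥ x) = k * ξ x := fun k x => map_smul ξ k x
  obtain ⟨c, hc⟩ := (isField_of hK hr).mul_inv_cancel hξ
  let φ : (ι → F) →ₗ[F] K :=
    { toFun := fun x => c * ξ x
      map_add' := fun x y => by rw [map_add, mul_add]
      map_smul' := fun a x => by
        have h1 := hmul (algebraMap F K a) x
        rw [Subalgebra.coe_algebraMap, Algebra.algebraMap_eq_smul_one, smul_mulVec, one_mulVec] at h1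
        rw [RingHom.id_apply, h1, mul_left_comm, Algebra.smul_def] }
  refine ⟨φ, fun k x => ?_, fun u hu => ?_, ?_⟩
  · show c * ξ _ = k * (c * ξ x)
    rw [hmul, mul_left_comm]
  · show c * ξ u = 0
    rw [(Submodule.eq_bot_iff _).mp hξU (ξ u) ⟨u, hu, rfl⟩, mul_zero]
  · show c * ξ w = 1
    rw [mul_comm, hc]

/-- The matrix of `x ↦ x + φ(x) v` has determinant the norm of `1 + φ v`. -/
theorem det_el (φ : (ι → F) →ₗ[F] K) (hφ : IsKLin φ) (v : ι → F) :
    (1 + LinearMap.toMatrix' (ev K v ∘ₗ φ)).det = Algebra.norm F (1 + φ v) := by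
  classical
  let b := Module.finBasis F K
  let bV := Pi.basisFun F ι
  have h1 : LinearMap.toMatrix' (ev K v ∘ₗ φ) =
      LinearMap.toMatrix b bV (ev K v) * LinearMap.toMatrix bV b φ := by
    rw [← LinearMap.toMatrix_comp bV b bV]
    exact (LinearMap.toMatrix_eq_toMatrix' (R := F) (n := ι)) ▸ rfl
  rw [h1, Matrix.det_one_add_mul_comm, ← LinearMap.toMatrix_comp b bV b,
    Algebra.norm_eq_matrix_det b]
  congr 1
  rw [Algebra.leftMulMatrix_apply, ← LinearMap.toMatrix_id b, ← map_add]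
  congr 1
  refine LinearMap.ext fun k => ?_
  show k + φ (ev K v k) = (1 + φ v) * k
  rw [ev_apply, hφ, add_mul, one_mul]
  congr 1
  exact Subtype.ext (hK.comm _ (SetLike.coe_mem _) _ (SetLike.coe_mem _))

/-- The element `x ↦ x + φ(x) v`, defined when `1 + φ v` is invertible. -/
noncomputable def el (φ : (ι → F) →ₗ[F] K) (hφ : IsKLin φ) (v : ι → F)
    (h : IsUnit (1 + φ v)) : GL ι F :=
  GeneralLinearGroup.mkOfDetNeZero (1 + LinearMap.toMatrix' (ev K v ∘ₗ φ))
    (by rw [det_el hK φ hφ]; exact (h.map (Algebra.norm F)).ne_zero)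

theorem el_mulVec (φ : (ι → F) →ₗ[F] K) (hφ : IsKLin φ) (v : ι → F)
    (h : IsUnit (1 + φ v)) (x : ι → F) :
    (el hK φ hφ v h : Matrix ι ι F) *ᵥ x = x + ev K v (φ x) := by
  show (1 + LinearMap.toMatrix' (ev K v ∘ₗ φ)) *ᵥ x = _
  rw [add_mulVec, one_mulVec, LinearMap.toMatrix'_mulVec, LinearMap.comp_apply]

theorem el_det (φ : (ι → F) →ₗ[F] K) (hφ : IsKLin φ) (v : ι → F) (h : IsUnit (1 + φ v)) :
    (Matrix.GeneralLinearGroup.det (el hK φ hφ v h) : F) = Algebra.norm F (1 + φ v) := by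
  rw [Matrix.GeneralLinearGroup.val_det_apply]
  exact det_el hK φ hφ v

theorem el_comm (φ : (ι → F) →ₗ[F] K) (hφ : IsKLin φ) (v : ι → F)
    (h : IsUnit (1 + φ v)) (k : K) (x : ι → F) :
    (el hK φ hφ v h : Matrix ι ι F) *ᵥ ((k : Matrix ι ι F) *ᵥ x) =
      (k : Matrix ι ι F) *ᵥ ((el hK φ hφ v h : Matrix ι ι F) *ᵥ x) := by
  rw [el_mulVec, el_mulVec, hφ, ev_mul, mulVec_add]

omit hK in
/-- A functional times an element of `K`. -/
theorem isKLin_smul (hcomm : ∀ a b : K, a * b = b * a) {φ : (ι → F) →ₗ[F] K} (hφ : IsKLin φ)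
    (c : K) : IsKLin (LinearMap.mulLeft F c ∘ₗ φ) := fun k x => by
  show c * φ _ = k * (c * φ x)
  rw [hφ, ← mul_assoc, hcomm c k, mul_assoc]

theorem kmul_comm (a b : K) : a * b = b * a := Subtype.ext (hK.comm a a.2 b b.2)

omit hK in
/-- An element commuting with `K` normalises it. -/
theorem mem_normalizer_of_comm {g : GL ι F}
    (h : ∀ (k : K) x, (g : Matrix ι ι F) *ᵥ ((k : Matrix ι ι F) *ᵥ x) =
      (k : Matrix ι ι F) *ᵥ ((g : Matrix ι ι F) *ᵥ x)) :
    g ∈ Geo.subalgebraNormalizer K := by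
  have hc : ∀ k ∈ K, (g : Matrix ι ι F) * k * ((g⁻¹ : GL ι F) : Matrix ι ι F) = k := by
    intro k hk
    have h1 : (g : Matrix ι ι F) * k = k * (g : Matrix ι ι F) :=
      Matrix.ext_of_mulVec_single fun i => by
        rw [← mulVec_mulVec, ← mulVec_mulVec]; exact h ⟨k, hk⟩ _
    rw [h1, mul_assoc, ← Units.val_mul, mul_inv_cancel, Units.val_one, mul_one]
  intro k
  refine ⟨fun hk => (hc k hk).symm ▸ hk, fun hk => ?_⟩
  have h1 := hc _ hk
  rw [Units.mul_left_inj, Units.mul_right_inj] at h1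
  exact h1 ▸ hk

end Cfsg.Agent.ExtFieldMax
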