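import Mathlib.RingTheory.Trace.Basic
import Mathlib.RingTheory.Adjoin.Basic
import Mathlib.FieldTheory.Finite.Basic
import Mathlib.LinearAlgebra.FreeModule.PID
import Mathlib.FieldTheory.Perfect
import Cfsg.Agent.ExtFieldMax.Elem

/-!
Spaces of linear maps of a finite field extension of prime degree, stable under multiplication on
both sides (helper98).
-/

set_option autoImplicit false

namespace Cfsg.Agent.ExtFieldMax

variable {F E : Type*} [Field F] [Finite F] [Field E] [Algebra F E] [FiniteDimensional F E]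

/-- Multiplication by `a`. -/
local notation "m[" a "]" => LinearMap.mulLeft F a

/-- The commutator with the multiplication by `a`. -/
noncomputable def adMul (F : Type*) {E : Type*} [Field F] [Field E] [Algebra F E] (a : E) :
    (E →ₗ[F] E) →ₗ[F] (E →ₗ[F] E) where
  toFun T := LinearMap.mulLeft F a ∘ₗ T - T ∘ₗ LinearMap.mulLeft F a
  map_add' S T := by rw [LinearMap.comp_add, LinearMap.add_comp]; abel
  map_smul' c T := by
    rw [LinearMap.comp_smul, LinearMap.smul_comp, RingHom.id_apply, smul_sub]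

omit [Finite F] [FiniteDimensional F E] in
theorem adMul_apply (a : E) (T : E →ₗ[F] E) (x : E) :
    adMul F a T x = a * T x - T (a * x) := rfl

variable {a : E} (hp : (Module.finrank F E).Prime) (ha : a ∉ Set.range (algebraMap F E))
include hp ha

omit [Finite F] in
theorem ker_adMul {T : E →ₗ[F] E} (hT : adMul F a T = 0) : T = m[T 1] := by
  have hcomm : ∀ x, T (a * x) = a * T x := fun x => by
    have h := LinearMap.congr_fun hT x
    rw [adMul_apply, LinearMap.zero_apply, sub_eq_zero] at h
    exact h.symm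
  haveI := Subalgebra.isSimpleOrder_of_finrank_prime F E hp
  let C : Subalgebra F E :=
    { carrier := {c | ∀ x, T (c * x) = c * T x}
      mul_mem' := fun {c d} hc hd x => by rw [mul_assoc, hc, hd, mul_assoc]
      one_mem' := fun x => by rw [one_mul, one_mul]
      add_mem' := fun {c d} hc hd x => by rw [add_mul, map_add, hc, hd, add_mul]
      zero_mem' := fun x => by rw [zero_mul, map_zero, zero_mul]
      algebraMap_mem' := fun c x => by rw [← Algebra.smul_def, map_smul, Algebra.smul_def] }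
  have hC : C = ⊤ := (IsSimpleOrder.eq_bot_or_eq_top C).resolve_left fun h => ha (by
    have : a ∈ (⊥ : Subalgebra F E) := h ▸ (hcomm : a ∈ C)
    simpa [Algebra.mem_bot] using this)
  refine LinearMap.ext fun x => ?_
  have := (hC ▸ Algebra.mem_top : x ∈ C) 1
  rw [mul_one] at this
  rw [this, LinearMap.mulLeft_apply, mul_comm]

omit hp ha in
theorem mulLeft_not_mem_range {a c : E} (h : ∃ T, adMul F a T = m[c]) : c = 0 := by
  obtain ⟨T, hT⟩ := h
  haveI : Algebra.IsSeparable F E := inferInstance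
  by_contra hc
  obtain ⟨d, hd⟩ := Algebra.trace_surjective F E 1
  have h1 : m[d / c] ∘ₗ adMul F a T = m[d] := by
    rw [hT]
    refine LinearMap.ext fun x => ?_
    simp only [LinearMap.comp_apply, LinearMap.mulLeft_apply]
    rw [← mul_assoc, div_mul_cancel₀ _ hc]
  have h2 : adMul F a (m[d / c] ∘ₗ T) = m[d / c] ∘ₗ adMul F a T := by
    refine LinearMap.ext fun x => ?_
    simp only [adMul_apply, LinearMap.comp_apply, LinearMap.mulLeft_apply]
    ring
  have h3 : LinearMap.trace F E (adMul F a (m[d / c] ∘ₗ T)) = 0 := by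
    show LinearMap.trace F E (m[a] * (m[d / c] ∘ₗ T) - (m[d / c] ∘ₗ T) * m[a]) = 0
    rw [map_sub, LinearMap.trace_mul_comm, sub_self]
  rw [h2, h1] at h3
  have h4 : LinearMap.trace F E m[d] = Algebra.trace F E d := rfl
  rw [h4, hd] at h3
  exact one_ne_zero h3

theorem finrank_range_adMul :
    Module.finrank F (LinearMap.range (adMul F a)) + Module.finrank F E =
      Module.finrank F E * Module.finrank F E := by
  have h1 := LinearMap.finrank_range_add_finrank_ker (adMul F a)
  have h2 : LinearMap.ker (adMul F a) = LinearMap.range (LinearMap.mul F E) := by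
    ext T
    constructor
    · intro hT
      exact ⟨T 1, (ker_adMul hp ha hT).symm⟩
    · rintro ⟨c, rfl⟩
      refine LinearMap.ext fun x => ?_
      rw [adMul_apply, LinearMap.mul_apply', LinearMap.mul_apply', LinearMap.zero_apply,
        mul_left_comm, sub_self]
  have h3 : Module.finrank F (LinearMap.range (LinearMap.mul F E)) = Module.finrank F E :=
    LinearMap.finrank_range_of_inj fun x y h => by simpa using LinearMap.congr_fun h 1
  rw [h2, h3, Module.finrank_linearMap] at h1
  exact h1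

/-- The multiplications and all commutators with `a` span everything. -/
theorem eq_top_of_range_le {Ψ : Submodule F (E →ₗ[F] E)} (h1 : ∀ c : E, m[c] ∈ Ψ)
    (h2 : LinearMap.range (adMul F a) ≤ Ψ) : Ψ = ⊤ := by
  have hle : LinearMap.range (LinearMap.mul F E) ⊔ LinearMap.range (adMul F a) ≤ Ψ := by
    refine sup_le ?_ h2
    rintro _ ⟨c, rfl⟩
    exact h1 c
  refine eq_top_iff.mpr (le_trans ?_ hle)
  refine (Submodule.eq_top_of_finrank_eq ?_).ge
  have h3 := Submodule.finrank_sup_add_finrank_inf_eq (LinearMap.range (LinearMap.mul F E))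
    (LinearMap.range (adMul F a))
  have h4 : LinearMap.range (LinearMap.mul F E) ⊓ LinearMap.range (adMul F a) = ⊥ := by
    rw [Submodule.eq_bot_iff]
    rintro T ⟨⟨c, rfl⟩, hT⟩
    obtain ⟨S, hS⟩ := hT
    rw [mulLeft_not_mem_range (c := c) ⟨S, hS⟩, map_zero]
  have h5 : Module.finrank F (LinearMap.range (LinearMap.mul F E)) = Module.finrank F E :=
    LinearMap.finrank_range_of_inj fun x y h => by simpa using LinearMap.congr_fun h 1
  have h6 := finrank_range_adMul hp ha
  rw [h4, finrank_bot, h5] at h3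
  rw [Module.finrank_linearMap]
  omega

omit [Finite F] hp ha in
/-- The maps of rank one span everything. -/
theorem eq_top_of_smulRight {Ψ : Submodule F (E →ₗ[F] E)} {θ : E →ₗ[F] F} (hθ : θ ≠ 0)
    (h : ∀ x y : E, (θ ∘ₗ m[x]).smulRight y ∈ Ψ) : Ψ = ⊤ := by
  let Φ : E →ₗ[F] (E →ₗ[F] F) :=
    { toFun := fun x => θ ∘ₗ m[x]
      map_add' := fun x y => LinearMap.ext fun z => by simp [add_mul]
      map_smul' := fun c x => LinearMap.ext fun z => by simp }
  have hΦ : Function.Injective Φ := by
    rw [injective_iff_map_eq_zero]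
    intro x hx
    by_contra hx0
    refine hθ (LinearMap.ext fun z => ?_)
    have := LinearMap.congr_fun hx (x⁻¹ * z)
    simpa [Φ, hx0] using this
  have hsurj : Function.Surjective Φ :=
    (LinearMap.injective_iff_surjective_of_finrank_eq_finrank
      (by rw [Module.finrank_linearMap, Module.finrank_self, mul_one])).mp hΦ
  rw [eq_top_iff]
  intro T _
  let b := Module.finBasis F E
  have hT : T = ∑ i, (b.coord i).smulRight (T (b i)) := b.ext fun j => by
    simp [LinearMap.sum_apply, Finsupp.single_apply]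
  rw [hT]
  refine sum_mem fun i _ => ?_
  obtain ⟨x, hx⟩ := hsurj (b.coord i)
  rw [← hx]
  exact h x _

omit [Finite F] hp ha in
/-- A bimodule with a map of rank one is everything. -/
theorem eq_top_of_rankOne {Ψ : Submodule F (E →ₗ[F] E)}
    (hl : ∀ (c : E), ∀ ψ ∈ Ψ, m[c] ∘ₗ ψ ∈ Ψ) (hr : ∀ (c : E), ∀ ψ ∈ Ψ, ψ ∘ₗ m[c] ∈ Ψ)
    {θ : E →ₗ[F] F} (hθ : θ ≠ 0) {y : E} (hy : y ≠ 0) (h : θ.smulRight y ∈ Ψ) : Ψ = ⊤ := by
  refine eq_top_of_smulRight hθ fun x z => ?_
  convert hl (z / y) _ (hr x _ h) using 1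
  refine LinearMap.ext fun u => ?_
  show θ (x * u) • z = z / y * (θ (x * u) • y)
  rw [mul_smul_comm, div_mul_cancel₀ _ hy]

/-- A bimodule with an alternating combination of two maps of rank one is everything. -/
theorem eq_top_of_balanced {Ψ : Submodule F (E →ₗ[F] E)} (h1 : ∀ c : E, m[c] ∈ Ψ)
    (hl : ∀ (c : E), ∀ ψ ∈ Ψ, m[c] ∘ₗ ψ ∈ Ψ) (hr : ∀ (c : E), ∀ ψ ∈ Ψ, ψ ∘ₗ m[c] ∈ Ψ)
    {θ : E →ₗ[F] F} (hθ : θ ≠ 0) {κ : E} (hκ : κ ≠ 0)
    (h : (θ ∘ₗ m[a * κ]).smulRight κ - (θ ∘ₗ m[κ]).smulRight (a * κ) ∈ Ψ) : Ψ = ⊤ := by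
  refine eq_top_of_range_le hp ha h1 ?_
  rw [LinearMap.range_le_iff_comap]
  refine eq_top_of_smulRight hθ fun x y => ?_
  rw [Submodule.mem_comap]
  convert hl (-(y / κ)) _ (hr (x / κ) _ h) using 1
  refine LinearMap.ext fun u => ?_
  show a * (θ (x * u) • y) - θ (x * (a * u)) • y =
    -(y / κ) * (θ (a * κ * (x / κ * u)) • κ - θ (κ * (x / κ * u)) • (a * κ))
  have e1 : a * κ * (x / κ * u) = x * (a * u) := by field_simp
  have e2 : κ * (x / κ * u) = x * u := by field_simp
  rw [e1, e2, mul_sub, mul_smul_comm, mul_smul_comm, mul_smul_comm]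
  have e3 : -(y / κ) * κ = -y := by field_simp
  have e4 : -(y / κ) * (a * κ) = -(a * y) := by field_simp
  rw [e3, e4, smul_neg, smul_neg]
  abel

end Cfsg.Agent.ExtFieldMax
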