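import Cfsg.Agent.ExtFieldMax.Overgroup

/-!
The commutator of a map `x ↦ x + φ(x) v` with an element stabilising the line of `v` (helper98).
-/

set_option autoImplicit false

namespace Cfsg.Agent.ExtFieldMax

open Matrix Cfsg.Agent.MaxSub

variable {ι : Type} [Fintype ι] [DecidableEq ι] {F : Type*} [Field F]
variable {K : Subalgebra F (Matrix ι ι F)} {r : ℕ}

theorem InH.conj {H : Subgroup (GL ι F)} {T : (ι → F) →ₗ[F] (ι → F)} (hT : InH H T)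
    {h : GL ι F} (hh : h ∈ H) :
    InH H ((((h⁻¹ : GL ι F) : Matrix ι ι F).mulVecLin) ∘ₗ T ∘ₗ (h : Matrix ι ι F).mulVecLin) := by
  obtain ⟨g, hg, hgx⟩ := hT
  refine ⟨h⁻¹ * g * h, mul_mem (mul_mem (inv_mem hh) hg) hh, fun x => ?_⟩
  rw [Units.val_mul, Units.val_mul, ← mulVec_mulVec, ← mulVec_mulVec, hgx, mulVec_add,
    inv_mulVec_mulVec]
  rfl

variable (hK : Geo.IsFieldSubalgebra r K) (H : Subgroup (GL ι F))
variable (hC : ∀ g : GL ι F, g ∈ Geo.specialLinear ι F →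
  (∀ (k : K) x, (g : Matrix ι ι F) *ᵥ ((k : Matrix ι ι F) *ᵥ x) =
    (k : Matrix ι ι F) *ᵥ ((g : Matrix ι ι F) *ᵥ x)) → g ∈ H)

include hK hC in
theorem inH_commutator {v w : ι → F} {κ : K} {D : (ι → F) →ₗ[F] (ι → F)} {θ : K →ₗ[F] F}
    {β : (ι → F) →ₗ[F] F} (hD : InH H D) (hDD : ∀ x, D (D x) = 0)
    (hDv : ∀ μ, D (ev K v μ) = θ μ • ev K v κ) (hβv : ∀ μ, β (ev K v μ) = 0)
    {φ : (ι → F) →ₗ[F] K} (hφ : IsKLin φ) (hφv : φ v = 0)
    (hφD : ∀ y, φ (D y) = β y • φ w) :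
    InH H (ev K v ∘ₗ ((θ ∘ₗ φ).smulRight κ - β.smulRight (φ w + θ (φ w) • κ))) := by
  obtain ⟨e, he, hex⟩ := inH_el_zero hK H hC hφ hφv
  obtain ⟨g, hg, hgx⟩ := hD
  refine ⟨g * e * g⁻¹ * e⁻¹, mul_mem (mul_mem (mul_mem hg he) (inv_mem hg)) (inv_mem he),
    fun x => ?_⟩
  obtain ⟨z, rfl⟩ : ∃ z, (e : Matrix ι ι F) *ᵥ z = x := ⟨_, mulVec_inv_mulVec e x⟩
  have hginv : ((g⁻¹ : GL ι F) : Matrix ι ι F) *ᵥ z = z - D z := by
    refine mulVec_injective g ?_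
    show (g : Matrix ι ι F) *ᵥ _ = (g : Matrix ι ι F) *ᵥ _
    rw [mulVec_inv_mulVec, hgx, map_sub, hDD]
    abel
  rw [Units.val_mul, Units.val_mul, Units.val_mul, ← mulVec_mulVec, ← mulVec_mulVec,
    ← mulVec_mulVec, inv_mulVec_mulVec, hginv, hex, hgx, hex]
  simp only [LinearMap.comp_apply, map_sub, map_add, map_smul, LinearMap.sub_apply,
    LinearMap.smulRight_apply, hφD, hDD, hDv, phi_ev hK hφ, hφv, hβv, mul_zero, map_zero, add_zero,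
    smul_add]
  module

end Cfsg.Agent.ExtFieldMax
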