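import Mathlib.RingTheory.Norm.Basic
import Mathlib.FieldTheory.Finite.Basic
import Mathlib.Algebra.Field.Subfield.Basic
import Mathlib.FieldTheory.Finite.Extension
import Mathlib.Tactic

/-!
The elements of norm one of an extension of finite fields generate it additively (helper98).
-/

set_option autoImplicit false

namespace Cfsg.Agent.ExtFieldMax

theorem normOne_closure {F E : Type*} [Field F] [Finite F] [Field E] [Algebra F E]
    [FiniteDimensional F E] (h2 : 2 ≤ Module.finrank F E) (x : E) :
    x ∈ AddSubgroup.closure {e : E | Algebra.norm F e = 1} := by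
  haveI : Finite E := Module.finite_of_finite F
  let P : Submonoid E := MonoidHom.mker (Algebra.norm F : E →* F)
  have hP : (P : Set E) = {e : E | Algebra.norm F e = 1} := rfl
  let R : Subring E := Subring.closure (P : Set E)
  let S : Subfield E :=
    { R with
      inv_mem' := fun y hy => by
        rcases eq_or_ne y 0 with rfl | h
        · simpa using R.zero_mem
        have hfin : IsOfFinOrder (Units.mk0 y h) := isOfFinOrder_of_finite _
        obtain ⟨n, hn, hn'⟩ := (Units.isOfFinOrder_val (u := Units.mk0 y h)).mpr hfin |>.exists_pow_eq_one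
        have : y⁻¹ = y ^ (n - 1) := by
          refine inv_eq_of_mul_eq_one_right ?_
          rw [← pow_succ', Nat.sub_add_cancel hn]
          exact hn'
        rw [this]
        exact R.pow_mem hy _ }
  suffices h : (S : Set E) = Set.univ by
    have hx : x ∈ R := (Set.eq_univ_iff_forall.mp h x : x ∈ S)
    rw [Subring.mem_closure_iff, Submonoid.closure_eq] at hx
    exact hx
  -- counting
  set q := Nat.card F with hq
  set r := Module.finrank F E with hr
  have hq2 : 2 ≤ q := Finite.one_lt_card
  have hE : Nat.card E = q ^ r := Module.natCard_eq_pow_finrank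
  let N : Eˣ →* Fˣ := Units.map (Algebra.norm F : E →* F)
  have hN : Function.Surjective N := FiniteField.unitsMap_norm_surjective F E
  have h3 : Nat.card N.ker * (q - 1) = q ^ r - 1 := by
    rw [hq, ← Nat.card_units, ← hE, ← Nat.card_units, ← Subgroup.index_mul_card N.ker,
      Subgroup.index_ker, MonoidHom.range_eq_top.mpr hN, Subgroup.card_top, mul_comm]
  have h4 : Nat.card N.ker < Nat.card S := by
    let f : Option N.ker → S := fun o => o.elim 0 fun u =>
      ⟨(u.1 : E), Subring.subset_closure (congrArg Units.val (u.2 : N u.1 = 1))⟩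
    have hf : Function.Injective f := by
      rintro (_ | u) (_ | v) huv
      · rfl
      · exact absurd (congrArg Subtype.val huv).symm (Units.ne_zero v.1)
      · exact absurd (congrArg Subtype.val huv) (Units.ne_zero u.1)
      · exact congrArg some (Subtype.ext (Units.ext (congrArg Subtype.val huv)))
    have := Nat.card_le_card_of_injective f hf
    rwa [Finite.card_option] at this
  have h5 : q ^ (r - 1) ≤ Nat.card N.ker := by
    by_contra hc
    have h6 : q ^ r = q * q ^ (r - 1) := by rw [← pow_succ', Nat.sub_add_cancel (by omega)]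
    have h7 : 1 ≤ q ^ r := Nat.one_le_pow _ _ (by omega)
    obtain ⟨d, hd⟩ : ∃ d, q = d + 1 := ⟨q - 1, by omega⟩
    rw [show q - 1 = d by omega] at h3
    have h8 : Nat.card N.ker + 1 ≤ q ^ (r - 1) := by omega
    have h9 := Nat.mul_le_mul_left d h8
    have h10 : 1 ≤ q ^ (r - 1) := Nat.one_le_pow _ _ (by omega)
    have h12 : q = d + 1 := hd
    rw [h6, mul_comm (Nat.card N.ker)] at h3
    generalize hA : q ^ (r - 1) = A at h3 h8 h9 h10
    generalize Nat.card N.ker = k at h3 h8 h9
    rw [h12] at h3
    rw [add_mul, one_mul] at h3
    rw [mul_add, mul_one] at h9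
    omega
  have hk : Nat.card E = Nat.card S ^ Module.finrank S E := Module.natCard_eq_pow_finrank
  have hk1 : Module.finrank S E = 1 := by
    have hpos : 0 < Module.finrank S E := Module.finrank_pos
    by_contra hne
    have h6 : (q ^ (r - 1)) ^ 2 < Nat.card S ^ 2 := Nat.pow_lt_pow_left (by omega) (by norm_num)
    have h7 : Nat.card S ^ 2 ≤ Nat.card S ^ Module.finrank S E :=
      Nat.pow_le_pow_right Nat.card_pos (by omega)
    have h8 : q ^ r ≤ (q ^ (r - 1)) ^ 2 := by
      rw [← pow_mul]
      exact Nat.pow_le_pow_right (by omega) (by omega)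
    omega
  rw [hk1, pow_one] at hk
  haveI : Finite (S : Set E) := inferInstance
  exact Set.eq_of_subset_of_ncard_le (Set.subset_univ _)
    (le_of_eq (by rw [Set.ncard_univ, hk]; exact Nat.card_coe_set_eq _)) Set.finite_univ

end Cfsg.Agent.ExtFieldMax
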