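import Cfsg.Agent.ExtFieldMax.Elem
import Mathlib.FieldTheory.Finite.GaloisField

/-!
Overgroups of the determinant one centraliser of a field subalgebra: transitivity and the passage
to all transvections (helper98).
-/

set_option autoImplicit false

namespace Cfsg.Agent.ExtFieldMax

open Matrix Cfsg.Agent.MaxSub

variable {ι : Type} [Fintype ι] [DecidableEq ι] {F : Type*} [Field F]
variable {K : Subalgebra F (Matrix ι ι F)} {r : ℕ}

/-- `1 + T` lies in `H`. -/
def InH (H : Subgroup (GL ι F)) (T : (ι → F) →ₗ[F] (ι → F)) : Prop :=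
  ∃ g ∈ H, ∀ x, (g : Matrix ι ι F) *ᵥ x = x + T x

theorem InH.add {H : Subgroup (GL ι F)} {S T : (ι → F) →ₗ[F] (ι → F)} (hS : InH H S)
    (hT : InH H T) (h : ∀ x, S (T x) = 0) : InH H (S + T) := by
  obtain ⟨g, hg, hgx⟩ := hS
  obtain ⟨g', hg', hgx'⟩ := hT
  refine ⟨g * g', mul_mem hg hg', fun x => ?_⟩
  rw [Units.val_mul, ← mulVec_mulVec, hgx', hgx, map_add, h, LinearMap.add_apply]
  abel

theorem InH.zero {H : Subgroup (GL ι F)} : InH H (0 : (ι → F) →ₗ[F] (ι → F)) :=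
  ⟨1, one_mem H, fun x => by simp⟩

theorem InH.neg {H : Subgroup (GL ι F)} {T : (ι → F) →ₗ[F] (ι → F)} (hT : InH H T)
    (h : ∀ x, T (T x) = 0) : InH H (-T) := by
  obtain ⟨g, hg, hgx⟩ := hT
  refine ⟨g⁻¹, inv_mem hg, fun x => mulVec_injective g ?_⟩
  show (g : Matrix ι ι F) *ᵥ _ = (g : Matrix ι ι F) *ᵥ _
  rw [mulVec_inv_mulVec, hgx, LinearMap.neg_apply, map_add, map_neg, h]
  abel

/-- The vector of a functional. -/
def vec (ξ : (ι → F) →ₗ[F] F) : ι → F := fun i => ξ (Pi.single i 1)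

theorem vec_dot (ξ : (ι → F) →ₗ[F] F) (x : ι → F) : vec ξ ⬝ᵥ x = ξ x := by
  conv_rhs => rw [pi_eq_sum_univ' x]
  simp only [map_sum, map_smul, smul_eq_mul, dotProduct, vec, mul_comm]

/-- The functional of a vector. -/
def dotLin (ξ : ι → F) : (ι → F) →ₗ[F] F where
  toFun x := ξ ⬝ᵥ x
  map_add' := dotProduct_add ξ
  map_smul' c x := dotProduct_smul c ξ x

theorem smul_one_mem (c : F) : ∀ x : ι → F,
    ((algebraMap F K c : K) : Matrix ι ι F) *ᵥ x = c • x := fun x => by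
  rw [Subalgebra.coe_algebraMap, Algebra.algebraMap_eq_smul_one, smul_mulVec, one_mulVec]

theorem exists_notMem_of_lt {U : Submodule F (ι → F)} (h : Module.finrank F U < Fintype.card ι) :
    ∃ x, x ∉ U := by
  by_contra hc
  push Not at hc
  rw [Submodule.eq_top_iff'.mpr hc, finrank_top, Module.finrank_fintype_fun_eq_card] at h
  omega

theorem stable_bot : Stable K (⊥ : Submodule F (ι → F)) := fun k x hx => by
  rw [Submodule.mem_bot] at hx ⊢
  rw [hx, mulVec_zero]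

theorem finrank_map_gl (g : GL ι F) (U : Submodule F (ι → F)) :
    Module.finrank F (U.map (g : Matrix ι ι F).mulVecLin) = Module.finrank F U :=
  (Submodule.equivMapOfInjective _ (mulVec_injective g) U).finrank_eq.symm

variable (hK : Geo.IsFieldSubalgebra r K) (hr : r.Prime) (hcard : r < Fintype.card ι)
variable (H : Subgroup (GL ι F))
variable (hC : ∀ g : GL ι F, g ∈ Geo.specialLinear ι F →
  (∀ (k : K) x, (g : Matrix ι ι F) *ᵥ ((k : Matrix ι ι F) *ᵥ x) =
    (k : Matrix ι ι F) *ᵥ ((g : Matrix ι ι F) *ᵥ x)) → g ∈ H)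

include hK in
theorem mem_kline_of_mulVec {k : K} (hk : k ≠ 0) {x v : ι → F}
    (h : (k : Matrix ι ι F) *ᵥ x ∈ kline K v) : x ∈ kline K v := by
  obtain ⟨l, hl, hkl⟩ := hK.inv k k.2 fun h => hk (Subtype.ext h)
  have := kline_stable v ⟨l, hl⟩ h
  rwa [mulVec_mulVec, show l * (k : Matrix ι ι F) = 1 by rw [hK.comm l hl k k.2, hkl],
    one_mulVec] at this

include hK in
theorem phi_ev {φ : (ι → F) →ₗ[F] K} (hφ : IsKLin φ) (v : ι → F) (k : K) :
    φ (ev K v k) = k * φ v := by rw [ev_apply, hφ]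

include hK hr hcard in
/-- A functional over the field with value one at a given vector. -/
theorem exists_one {v : ι → F} (hv : v ≠ 0) :
    ∃ φ : (ι → F) →ₗ[F] K, IsKLin φ ∧ φ v = 1 := by
  obtain ⟨φ, h1, -, h2⟩ := exists_klin hK hr.one_lt.le stable_bot
    (show v ∉ (⊥ : Submodule F (ι → F)) from hv)
  exact ⟨φ, h1, h2⟩

include hC hK in
/-- The elements `x ↦ x + φ(x) v` of norm one. -/
theorem inH_el {φ : (ι → F) →ₗ[F] K} (hφ : IsKLin φ) {v : ι → F}
    (hu : IsUnit (1 + φ v)) (h : Algebra.norm F (1 + φ v) = 1) :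
    InH H (ev K v ∘ₗ φ) := by
  refine ⟨el hK φ hφ v hu, hC _ (Units.ext ?_) (el_comm hK φ hφ v _), el_mulVec hK φ hφ v _⟩
  rw [el_det hK φ hφ v, h, Units.val_one]

include hC hK in
theorem inH_el_zero {φ : (ι → F) →ₗ[F] K} (hφ : IsKLin φ) {v : ι → F} (h : φ v = 0) :
    InH H (ev K v ∘ₗ φ) :=
  inH_el hK H hC hφ (by rw [h, add_zero]; exact isUnit_one) (by rw [h, add_zero, map_one])

include hK hr hcard hC in
/-- `H` is transitive on the non-zero vectors. -/
theorem exists_move {z u : ι → F} (hz : z ≠ 0) (hu : u ≠ 0) :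
    ∃ g ∈ H, (g : Matrix ι ι F) *ᵥ z = u ∧ ∀ (k : K) x,
      (g : Matrix ι ι F) *ᵥ ((k : Matrix ι ι F) *ᵥ x) =
        (k : Matrix ι ι F) *ᵥ ((g : Matrix ι ι F) *ᵥ x) := by
  have key : ∀ {z u : ι → F}, z ≠ 0 → u ≠ 0 → u ∉ kline K z →
      ∃ g ∈ H, (g : Matrix ι ι F) *ᵥ z = u ∧ ∀ (k : K) x,
      (g : Matrix ι ι F) *ᵥ ((k : Matrix ι ι F) *ᵥ x) =
        (k : Matrix ι ι F) *ᵥ ((g : Matrix ι ι F) *ᵥ x) := by
    intro z u hz hu hout
    have hzU : z ∉ kline K (u - z) := by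
      rintro ⟨k, hk⟩
      have hk0 : k ≠ 0 := fun h => hz (by rw [← hk, h, map_zero])
      refine hout (mem_kline_of_mulVec hK hk0 ?_)
      rw [ev_apply, mulVec_sub, sub_eq_iff_eq_add] at hk
      rw [hk]
      exact add_mem (self_mem_kline z) (kline_stable z k (self_mem_kline z))
    obtain ⟨φ, hφ, hφU, hφz⟩ := exists_klin hK hr.one_lt.le (stable_kline (u - z)) hzU
    obtain ⟨g, hg, hgx⟩ := inH_el_zero hK H hC hφ (hφU _ (self_mem_kline _))
    refine ⟨g, hg, by rw [hgx, LinearMap.comp_apply, hφz, ev_one, add_sub_cancel],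
      fun k x => ?_⟩
    rw [hgx, hgx, LinearMap.comp_apply, LinearMap.comp_apply, hφ, ev_mul, mulVec_add]
  by_cases h : u ∈ kline K z
  · obtain ⟨w, hw⟩ := exists_notMem_of_lt (U := kline K z) (by rw [finrank_kline hK hz]; exact hcard)
    have hw0 : w ≠ 0 := fun h0 => hw (h0 ▸ zero_mem _)
    have hwu : u ∉ kline K w := by
      rintro ⟨k, hk⟩
      exact hw (mem_kline_of_mulVec hK (fun h0 => hu (by rw [← hk, h0, map_zero])) (hk ▸ h))
    obtain ⟨g, hg, hgz, hgc⟩ := key hz hw0 hw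
    obtain ⟨g', hg', hgw, hgc'⟩ := key hw0 hu hwu
    exact ⟨g' * g, mul_mem hg' hg, by rw [Units.val_mul, ← mulVec_mulVec, hgz, hgw],
      fun k x => by rw [Units.val_mul, ← mulVec_mulVec, ← mulVec_mulVec, hgc, hgc']⟩
  · exact key hz hu h

include hK hr hcard in
/-- Maps sending lines over the field into lines normalise the field. -/
theorem mem_normalizer_of_lines {g : GL ι F}
    (h : ∀ (k : K) x, (g : Matrix ι ι F) *ᵥ ((k : Matrix ι ι F) *ᵥ x) ∈
      kline K ((g : Matrix ι ι F) *ᵥ x))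
    (h' : ∀ (k : K) x, ((g⁻¹ : GL ι F) : Matrix ι ι F) *ᵥ ((k : Matrix ι ι F) *ᵥ x) ∈
      kline K (((g⁻¹ : GL ι F) : Matrix ι ι F) *ᵥ x)) :
    g ∈ Geo.subalgebraNormalizer K := by
  have key : ∀ g : GL ι F, (∀ (k : K) x, (g : Matrix ι ι F) *ᵥ ((k : Matrix ι ι F) *ᵥ x) ∈
      kline K ((g : Matrix ι ι F) *ᵥ x)) → ∀ k ∈ K,
      (g : Matrix ι ι F) * k * ((g⁻¹ : GL ι F) : Matrix ι ι F) ∈ K := by
    intro g h k hk
    set C := (g : Matrix ι ι F) * k * ((g⁻¹ : GL ι F) : Matrix ι ι F) with hC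
    have hCy : ∀ y, C *ᵥ y ∈ kline K y := by
      intro y
      rw [hC, ← mulVec_mulVec, ← mulVec_mulVec]
      have := h ⟨k, hk⟩ (((g⁻¹ : GL ι F) : Matrix ι ι F) *ᵥ y)
      rwa [mulVec_inv_mulVec] at this
    haveI : Nonempty ι := Fintype.card_pos_iff.mp (by omega)
    obtain ⟨v, hv⟩ : ∃ v : ι → F, v ≠ 0 := exists_ne 0
    obtain ⟨k0, hk0⟩ := hCy v
    have hDy : ∀ y, y ∉ kline K v → C *ᵥ y = (k0 : Matrix ι ι F) *ᵥ y := by
      intro y hy
      obtain ⟨k1, hk1⟩ := hCy y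
      obtain ⟨k2, hk2⟩ := hCy (y + v)
      rw [mulVec_add C, ← hk1, ← hk0, ev_apply, mulVec_add] at hk2
      simp only [ev_apply] at hk2 hk1
      have e : ((k1 - k2 : K) : Matrix ι ι F) *ᵥ y = ((k2 - k0 : K) : Matrix ι ι F) *ᵥ v := by
        rw [Subalgebra.coe_sub, Subalgebra.coe_sub, sub_mulVec, sub_mulVec]
        linear_combination (norm := module) -hk2
      by_cases hne : k1 - k2 = 0
      · rw [hne, ZeroMemClass.coe_zero, zero_mulVec] at e
        have h0 := eq_zero_of_mulVec hK hv e.symm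
        rw [← hk1, sub_eq_zero.mp hne, sub_eq_zero.mp h0]
      · exact absurd (mem_kline_of_mulVec hK hne (e ▸ kline_stable v _ (self_mem_kline v))) hy
    suffices C = k0 from this ▸ k0.2
    refine Matrix.ext_of_mulVec_single fun i => ?_
    set y := (Pi.single i 1 : ι → F)
    by_cases hy : y ∈ kline K v
    · obtain ⟨u, hu⟩ := exists_notMem_of_lt (U := kline K v)
        (by rw [finrank_kline hK hv]; exact hcard)
      have huy : y + u ∉ kline K v := fun h => hu (by simpa using sub_mem h hy)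
      have h1 := hDy _ huy
      rw [mulVec_add, mulVec_add, hDy u hu] at h1
      exact add_right_cancel h1
    · exact hDy y hy
  intro k
  refine ⟨key g h k, fun hk => ?_⟩
  have := key g⁻¹ h' _ hk
  rwa [inv_inv, ← mul_assoc, ← mul_assoc, ← Units.val_mul, inv_mul_cancel, Units.val_one,
    one_mul, mul_assoc, ← Units.val_mul, inv_mul_cancel, Units.val_one, mul_one] at this

include hK in
theorem kmul_eq_zero {k l : K} (hk : k ≠ 0) (h : k * l = 0) : l = 0 := by
  obtain ⟨b, hb, hkb⟩ := hK.inv k k.2 fun h => hk (Subtype.ext h)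
  have e : (⟨b, hb⟩ : K) * k = 1 := (kmul_comm hK _ _).trans (Subtype.ext hkb)
  rw [← one_mul l, ← e, mul_assoc, h, mul_zero]

include hK hr in
/-- Every functional is the composite of a fixed one with a functional over the field. -/
theorem exists_lift (ξ : (ι → F) →ₗ[F] F) :
    ∃ (θ : K →ₗ[F] F) (ψ : (ι → F) →ₗ[F] K), IsKLin ψ ∧ (∀ x, θ (ψ x) = ξ x) ∧
      ∀ v, (∀ k : K, ξ (ev K v k) = 0) → ψ v = 0 := by
  haveI : Module.Finite F K := Module.finite_of_finrank_pos (by rw [hK.finrank_eq]; exact hr.pos)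
  haveI : Nontrivial K := (isField_of hK hr.one_lt.le).nontrivial
  obtain ⟨θ, hθ⟩ : ∃ θ : K →ₗ[F] F, θ ≠ 0 := by
    let b := Module.finBasis F K
    refine ⟨b.coord ⟨0, Module.finrank_pos⟩, fun h => ?_⟩
    have := LinearMap.congr_fun h (b ⟨0, Module.finrank_pos⟩)
    simp at this
  let T : K →ₗ[F] (K →ₗ[F] F) :=
    { toFun := fun x => θ ∘ₗ LinearMap.mulLeft F x
      map_add' := fun x y => LinearMap.ext fun z => by simp [add_mul]
      map_smul' := fun c x => LinearMap.ext fun z => by simp }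
  have hT : Function.Injective T := by
    rw [injective_iff_map_eq_zero]
    intro x hx
    by_contra hx0
    obtain ⟨b, hb, hxb⟩ := hK.inv x x.2 fun h => hx0 (Subtype.ext h)
    refine hθ (LinearMap.ext fun z => ?_)
    have h1 : θ (x * (⟨b, hb⟩ * z)) = 0 := LinearMap.congr_fun hx (⟨b, hb⟩ * z)
    rwa [← mul_assoc, show x * (⟨b, hb⟩ : K) = 1 from Subtype.ext hxb, one_mul] at h1
  let e := LinearEquiv.ofBijective T ⟨hT,
    (LinearMap.injective_iff_surjective_of_finrank_eq_finrank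
      (by rw [Module.finrank_linearMap, Module.finrank_self, mul_one])).mp hT⟩
  let Φ : (ι → F) →ₗ[F] (K →ₗ[F] F) :=
    { toFun := fun x => ξ ∘ₗ ev K x
      map_add' := fun x y => LinearMap.ext fun k => by simp [mulVec_add]
      map_smul' := fun c x => LinearMap.ext fun k => by simp [mulVec_smul] }
  have he : ∀ x (l : K), θ (e.symm (Φ x) * l) = ξ (ev K x l) := fun x l =>
    LinearMap.congr_fun (e.apply_symm_apply (Φ x)) l
  refine ⟨θ, e.symm.toLinearMap ∘ₗ Φ, fun k x => ?_, fun x => ?_, fun v hv => ?_⟩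
  · show e.symm (Φ _) = k * e.symm (Φ x)
    apply e.injective
    rw [LinearEquiv.apply_symm_apply]
    refine LinearMap.ext fun l => ?_
    show ξ (ev K _ l) = θ (k * e.symm (Φ x) * l)
    rw [kmul_comm hK k, mul_assoc, he, ev_apply, ev_apply, mulVec_mulVec, kmul_comm hK k l]
    rfl
  · have := he x 1
    rwa [mul_one, ev_one] at this
  · show e.symm (Φ v) = 0
    rw [LinearEquiv.map_eq_zero_iff]
    exact LinearMap.ext hv

include hK hr hcard hC in
/-- Transvections with centre `v` and all functionals from one functional over the field. -/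
theorem specialLinear_le_of_dual {v z : ι → F} (hv : v ≠ 0)
    {φ : (ι → F) →ₗ[F] K} (hφ : IsKLin φ) (hφv : φ v = 0) (hφz : φ z = 1)
    (h : ∀ θ : K →ₗ[F] F, vec (θ ∘ₗ φ) ∈ dualSet H v) : Geo.specialLinear ι F ≤ H := by
  -- all functionals killing the line of `v`
  have h1 : ∀ (θ : K →ₗ[F] F) (ψ : (ι → F) →ₗ[F] K), IsKLin ψ → ψ v = 0 →
      vec (θ ∘ₗ ψ) ∈ dualSet H v := by
    intro θ ψ hψ hψv
    let χ : (ι → F) →ₗ[F] K := ψ - LinearMap.mulLeft F (ψ z) ∘ₗ φ
    have hχ : IsKLin χ := fun k x => by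
      show ψ _ - ψ z * φ _ = k * (ψ x - ψ z * φ x)
      rw [hψ, hφ, mul_sub, ← mul_assoc (ψ z), kmul_comm hK (ψ z) k, mul_assoc]
    have hχz : χ z = 0 := by
      show ψ z - ψ z * φ z = 0
      rw [hφz, mul_one, sub_self]
    have hχv : χ v = 0 := by
      show ψ v - ψ z * φ v = 0
      rw [hψv, hφv, mul_zero, sub_self]
    obtain ⟨g, hg, hgx⟩ := inH_el_zero hK H hC hχ hχz
    have hgv : (g : Matrix ι ι F) *ᵥ v = v := by
      rw [hgx, LinearMap.comp_apply, hχv, map_zero, add_zero]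
    have hgv' : ((g⁻¹ : GL ι F) : Matrix ι ι F) *ᵥ v = v := by
      conv_lhs => rw [← hgv]
      rw [inv_mulVec_mulVec]
    have h2 := conj_mem_dualSet (inv_mem hg) (h θ)
    rw [inv_inv, hgv'] at h2
    have h3 := sub_mem h2 (h θ)
    have h4 := h (θ ∘ₗ LinearMap.mulLeft F (ψ z))
    convert add_mem h3 h4 using 1
    refine funext fun i => ?_
    show θ (ψ _) = (vec (θ ∘ₗ φ) ᵥ* (g : Matrix ι ι F)) i - θ (φ (Pi.single i 1)) +
      θ (ψ z * φ (Pi.single i 1))
    rw [← dotProduct_single_one (vec (θ ∘ₗ φ) ᵥ* (g : Matrix ι ι F)) i, ← dotProduct_mulVec,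
      vec_dot, hgx, LinearMap.comp_apply, LinearMap.comp_apply, map_add, phi_ev hK hφ, hφz,
      mul_one]
    show _ = θ (φ _ + (ψ _ - ψ z * φ _)) - θ (φ _) + θ (ψ z * φ _)
    rw [map_add, map_sub]
    abel
  have h2 : ∀ u, u ≠ 0 → ∀ ξ : ι → F, (∀ k : K, ξ ⬝ᵥ ev K u k = 0) → ξ ∈ dualSet H u := by
    intro u hu ξ hξ
    obtain ⟨g, hg, hgv, hgc⟩ := exists_move hK hr hcard H hC hv hu
    obtain ⟨θ, ψ, hψ, hψt, hψ0⟩ := exists_lift hK hr
      (dotLin (ξ ᵥ* (g : Matrix ι ι F)))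
    have h3 := h1 θ ψ hψ (hψ0 v fun k => by
      show (ξ ᵥ* (g : Matrix ι ι F)) ⬝ᵥ ev K v k = 0
      rw [← dotProduct_mulVec, ev_apply, hgc, hgv]
      exact hξ k)
    have h4 := conj_mem_dualSet hg h3
    rw [hgv] at h4
    convert h4 using 1
    have h5 : vec (θ ∘ₗ ψ) = ξ ᵥ* (g : Matrix ι ι F) := funext fun i => by
      show θ (ψ _) = _
      rw [hψt]
      exact dotProduct_single_one _ i
    rw [h5, vecMul_vecMul, Units.mul_inv, vecMul_one]
  refine specialLinear_le_of_tv_mem fun u ξ hξu => ?_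
  rcases eq_or_ne u 0 with rfl | hu
  · rw [tv_zero_left]; exact one_mem H
  obtain ⟨θ, ψ, hψ, hψt, -⟩ := exists_lift hK hr (dotLin ξ)
  have hξw : ∀ w, ψ w = 0 → ∀ k : K, ξ ⬝ᵥ ev K w k = 0 := fun w hw k => by
    rw [show ξ ⬝ᵥ ev K w k = dotLin ξ (ev K w k) from rfl, ← hψt, phi_ev hK hψ, hw, mul_zero,
      map_zero]
  by_cases hψu : ψ u = 0
  · exact (h2 u hu ξ (hξw u hψu)).2
  obtain ⟨w, hw, hw0⟩ : ∃ w, ψ w = 0 ∧ w ≠ 0 := by
    by_contra hc
    push Not at hc
    have := LinearMap.finrank_le_finrank_of_injective (f := ψ)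
      ((injective_iff_map_eq_zero _).mpr hc)
    rw [hK.finrank_eq, Module.finrank_fintype_fun_eq_card] at this
    omega
  have hwu : w ∉ kline K u := by
    rintro ⟨k, rfl⟩
    rw [phi_ev hK hψ] at hw
    have hk0 : k ≠ 0 := fun h => hw0 (by rw [h, map_zero])
    exact hψu (kmul_eq_zero hK hk0 hw)
  obtain ⟨χ, hχ, hχw⟩ := exists_annihilator hwu
  have := comm_mem_dualSet (h2 u hu χ fun k => hχ _ ⟨k, rfl⟩) (h2 w hw0 ξ (hξw w hw)) hξu
  rw [hχw, one_smul] at this
  exact this.2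

end Cfsg.Agent.ExtFieldMax
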