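import Cfsg.Agent.ExtFieldMax.Overgroup
import Cfsg.Agent.ExtFieldMax.Bimod
import Cfsg.Agent.ExtFieldMax.NormOne

/-!
The maps `ψ` of the field with `x ↦ x + ψ(φ x) v` in an overgroup, and two criteria for the
overgroup to contain the special linear group (helper98).
-/

set_option autoImplicit false

namespace Cfsg.Agent.ExtFieldMax

open Matrix Cfsg.Agent.MaxSub

variable {ι : Type} [Fintype ι] [DecidableEq ι] {F : Type*} [Field F] [Finite F]
variable {K : Subalgebra F (Matrix ι ι F)} {r : ℕ}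
variable (hK : Geo.IsFieldSubalgebra r K) (hr : r.Prime) (hcard : r < Fintype.card ι)
variable (H : Subgroup (GL ι F))
variable (hC : ∀ g : GL ι F, g ∈ Geo.specialLinear ι F →
  (∀ (k : K) x, (g : Matrix ι ι F) *ᵥ ((k : Matrix ι ι F) *ᵥ x) =
    (k : Matrix ι ι F) *ᵥ ((g : Matrix ι ι F) *ᵥ x)) → g ∈ H)

include hK hr hcard hC

theorem exists_psi {v z : ι → F} (hv : v ≠ 0) {φ : (ι → F) →ₗ[F] K} (hφ : IsKLin φ)
    (hφv : φ v = 0) (hφz : φ z = 1) :
    ∃ Ψ : Submodule F (K →ₗ[F] K), (∀ ψ, ψ ∈ Ψ ↔ InH H (ev K v ∘ₗ ψ ∘ₗ φ)) ∧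
      (∀ c : K, LinearMap.mulLeft F c ∈ Ψ) ∧
      (∀ (c : K), ∀ ψ ∈ Ψ, LinearMap.mulLeft F c ∘ₗ ψ ∈ Ψ) ∧
      (∀ (c : K), ∀ ψ ∈ Ψ, ψ ∘ₗ LinearMap.mulLeft F c ∈ Ψ) := by
  letI : Field K := (isField_of hK hr.one_lt.le).toField
  have hfin : Module.Finite F K := Module.finite_of_finrank_pos (by rw [hK.finrank_eq]; exact hr.pos)
  have hkill : ∀ μ, φ (ev K v μ) = 0 := fun μ => by rw [phi_ev hK hφ, hφv, mul_zero]
  have hadd : ∀ S T : K →ₗ[F] K, InH H (ev K v ∘ₗ S ∘ₗ φ) → InH H (ev K v ∘ₗ T ∘ₗ φ) →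
      InH H (ev K v ∘ₗ (S + T) ∘ₗ φ) := by
    intro S T hS hT
    have := hS.add hT fun x => by simp only [LinearMap.comp_apply, hkill, map_zero]
    rwa [← LinearMap.comp_add, ← LinearMap.add_comp] at this
  have hneg : ∀ T : K →ₗ[F] K, InH H (ev K v ∘ₗ T ∘ₗ φ) → InH H (ev K v ∘ₗ (-T) ∘ₗ φ) := by
    intro T hT
    have := hT.neg fun x => by simp only [LinearMap.comp_apply, hkill, map_zero]
    rwa [LinearMap.neg_comp, LinearMap.comp_neg]
  have hzero : InH H (ev K v ∘ₗ (0 : K →ₗ[F] K) ∘ₗ φ) := by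
    rw [LinearMap.zero_comp, LinearMap.comp_zero]
    exact InH.zero
  obtain ⟨φ', hφ', hφ'v⟩ := exists_one hK hr hcard hv
  have hnorm : ∀ e : K, Algebra.norm F e = 1 → IsUnit e := fun e he =>
    isUnit_iff_ne_zero.mpr fun h => by rw [h, Algebra.norm_zero] at he; exact zero_ne_one he
  -- left multiplication
  have hleft : ∀ (c : K) (ψ : K →ₗ[F] K), InH H (ev K v ∘ₗ ψ ∘ₗ φ) →
      InH H (ev K v ∘ₗ (LinearMap.mulLeft F c ∘ₗ ψ) ∘ₗ φ) := by
    intro c ψ hψ
    induction normOne_closure (F := F) (by rw [hK.finrank_eq]; exact hr.two_le) c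
      using AddSubgroup.closure_induction with
    | mem e he =>
      have hd : IsKLin (LinearMap.mulLeft F (e - 1) ∘ₗ φ') := isKLin_smul mul_comm hφ' _
      have hu : 1 + (LinearMap.mulLeft F (e - 1) ∘ₗ φ') v = e := by
        show 1 + (e - 1) * φ' v = e
        rw [hφ'v, mul_one, add_sub_cancel]
      obtain ⟨d, hdH, hdx⟩ := inH_el hK H hC hd (by rw [hu]; exact hnorm e he)
        (by rw [hu]; exact he)
      obtain ⟨g, hg, hgx⟩ := hψ
      refine ⟨d * g * d⁻¹, mul_mem (mul_mem hdH hg) (inv_mem hdH), fun x => ?_⟩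
      obtain ⟨y, rfl⟩ : ∃ y, (d : Matrix ι ι F) *ᵥ y = x := ⟨_, mulVec_inv_mulVec d x⟩
      have hφy : φ ((d : Matrix ι ι F) *ᵥ y) = φ y := by
        rw [hdx, LinearMap.comp_apply, map_add, hkill, add_zero]
      rw [Units.val_mul, Units.val_mul, ← mulVec_mulVec, ← mulVec_mulVec, inv_mulVec_mulVec,
        hgx, mulVec_add]
      simp only [LinearMap.comp_apply]
      rw [hdx (ev K v _)]
      simp only [LinearMap.comp_apply, LinearMap.mulLeft_apply, hφy, phi_ev hK hφ', hφ'v, mul_one]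
      rw [← map_add]
      congr 2
      ring
    | zero =>
      rw [LinearMap.mulLeft_zero_eq_zero, LinearMap.zero_comp]
      exact hzero
    | add a b _ _ ha hb =>
      convert hadd _ _ ha hb using 1
      rw [← LinearMap.add_comp]
      congr 2
      exact LinearMap.ext fun x => by simp [add_mul]
    | neg a _ ha =>
      convert hneg _ ha using 1
      congr 2
      exact LinearMap.ext fun x => by simp
  have hright : ∀ (c : K) (ψ : K →ₗ[F] K), InH H (ev K v ∘ₗ ψ ∘ₗ φ) →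
      InH H (ev K v ∘ₗ (ψ ∘ₗ LinearMap.mulLeft F c) ∘ₗ φ) := by
    intro c ψ hψ
    induction normOne_closure (F := F) (by rw [hK.finrank_eq]; exact hr.two_le) c
      using AddSubgroup.closure_induction with
    | mem e he =>
      have hd : IsKLin (LinearMap.mulLeft F (e - 1) ∘ₗ φ) := isKLin_smul mul_comm hφ _
      have hu : 1 + (LinearMap.mulLeft F (e - 1) ∘ₗ φ) z = e := by
        show 1 + (e - 1) * φ z = e
        rw [hφz, mul_one, add_sub_cancel]
      obtain ⟨d, hdH, hdx⟩ := inH_el hK H hC hd (by rw [hu]; exact hnorm e he)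
        (by rw [hu]; exact he)
      obtain ⟨g, hg, hgx⟩ := hψ
      refine ⟨d⁻¹ * g * d, mul_mem (mul_mem (inv_mem hdH) hg) hdH, fun x => mulVec_injective d ?_⟩
      show (d : Matrix ι ι F) *ᵥ _ = (d : Matrix ι ι F) *ᵥ _
      rw [Units.val_mul, Units.val_mul, ← mulVec_mulVec, ← mulVec_mulVec, mulVec_inv_mulVec,
        hgx, mulVec_add, hdx (_ : ι → F)]
      simp only [LinearMap.comp_apply, LinearMap.mulLeft_apply, hdx, map_add, phi_ev hK hφ,
        hφz, hφv, mul_one, mul_zero, map_zero, add_zero]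
      rw [← map_add, ← map_add, show φ x + (e - 1) * φ x = e * φ x by ring]
    | zero =>
      rw [LinearMap.mulLeft_zero_eq_zero, LinearMap.comp_zero]
      exact hzero
    | add a b _ _ ha hb =>
      convert hadd _ _ ha hb using 1
      rw [← LinearMap.comp_add]
      congr 3
      exact LinearMap.ext fun x => by simp [add_mul]
    | neg a _ ha =>
      convert hneg _ ha using 1
      congr 2
      exact LinearMap.ext fun x => by simp
  refine ⟨{ carrier := {ψ | InH H (ev K v ∘ₗ ψ ∘ₗ φ)}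
            add_mem' := fun {S T} => hadd S T
            zero_mem' := hzero
            smul_mem' := fun c ψ hψ => ?_ }, fun ψ => Iff.rfl, fun c => ?_, hleft, hright⟩
  · have e : c • ψ = LinearMap.mulLeft F (algebraMap F K c) ∘ₗ ψ :=
      LinearMap.ext fun x => by simp [Algebra.smul_def]
    show InH H _
    rw [e]
    exact hleft _ _ hψ
  · show InH H (ev K v ∘ₗ LinearMap.mulLeft F c ∘ₗ φ)
    refine inH_el_zero hK H hC (isKLin_smul mul_comm hφ c) ?_
    show c * φ v = 0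
    rw [hφv, mul_zero]

theorem specialLinear_le_of_top {v z : ι → F} (hv : v ≠ 0) {φ : (ι → F) →ₗ[F] K} (hφ : IsKLin φ)
    (hφv : φ v = 0) (hφz : φ z = 1) (h : ∀ ψ : K →ₗ[F] K, InH H (ev K v ∘ₗ ψ ∘ₗ φ)) :
    Geo.specialLinear ι F ≤ H := by
  refine specialLinear_le_of_dual hK hr hcard H hC hv hφ hφv hφz fun θ => ?_
  have h0 : vec (θ ∘ₗ φ) ⬝ᵥ v = 0 := by rw [vec_dot, LinearMap.comp_apply, hφv, map_zero]
  obtain ⟨g, hg, hgx⟩ := h (θ.smulRight 1)
  refine ⟨h0, ?_⟩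
  rwa [show tv v (vec (θ ∘ₗ φ)) = g from gl_ext fun x => ?_]
  rw [tv_mulVec h0, hgx, vec_dot]
  show _ = x + ev K v (θ (φ x) • 1)
  rw [map_smul, ev_one]
  rfl

theorem specialLinear_le_of_rankOne {v z : ι → F} (hv : v ≠ 0) {φ : (ι → F) →ₗ[F] K}
    (hφ : IsKLin φ) (hφv : φ v = 0) (hφz : φ z = 1) {θ : K →ₗ[F] F} (hθ : θ ≠ 0) {y : K}
    (hy : y ≠ 0) (h : InH H (ev K v ∘ₗ θ.smulRight y ∘ₗ φ)) :
    Geo.specialLinear ι F ≤ H := by
  letI : Field K := (isField_of hK hr.one_lt.le).toField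
  haveI : Module.Finite F K := Module.finite_of_finrank_pos (by rw [hK.finrank_eq]; exact hr.pos)
  obtain ⟨Ψ, hmem, -, hl, hrt⟩ := exists_psi hK hr hcard H hC hv hφ hφv hφz
  have htop := eq_top_of_rankOne hl hrt hθ hy ((hmem _).mpr h)
  exact specialLinear_le_of_top hK hr hcard H hC hv hφ hφv hφz fun ψ =>
    (hmem ψ).mp (htop ▸ Submodule.mem_top)

theorem specialLinear_le_of_balanced {v z : ι → F} (hv : v ≠ 0) {φ : (ι → F) →ₗ[F] K}
    (hφ : IsKLin φ) (hφv : φ v = 0) (hφz : φ z = 1) {θ : K →ₗ[F] F} (hθ : θ ≠ 0) {κ k : K}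
    (hκ : κ ≠ 0) (hk : ∀ s : F, k ≠ s • κ)
    (h : InH H (ev K v ∘ₗ ((θ ∘ₗ LinearMap.mulLeft F k).smulRight κ -
      (θ ∘ₗ LinearMap.mulLeft F κ).smulRight k) ∘ₗ φ)) :
    Geo.specialLinear ι F ≤ H := by
  letI : Field K := (isField_of hK hr.one_lt.le).toField
  haveI : Module.Finite F K := Module.finite_of_finrank_pos (by rw [hK.finrank_eq]; exact hr.pos)
  obtain ⟨Ψ, hmem, h1, hl, hrt⟩ := exists_psi hK hr hcard H hC hv hφ hφv hφz
  have ha : k / κ ∉ Set.range (algebraMap F K) := by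
    rintro ⟨s, hs⟩
    refine hk s ?_
    rw [Algebra.smul_def, hs, div_mul_cancel₀ _ hκ]
  have htop := eq_top_of_balanced (hK.finrank_eq ▸ hr) ha h1 hl hrt hθ hκ
    (by rw [div_mul_cancel₀ _ hκ]; exact (hmem _).mpr h)
  exact specialLinear_le_of_top hK hr hcard H hC hv hφ hφv hφz fun ψ =>
    (hmem ψ).mp (htop ▸ Submodule.mem_top)

end Cfsg.Agent.ExtFieldMax
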